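import Mathlib
import Cfsg.Agent.Involutions.BaerSuzuki

/-!
# THEOREM R (bb #17297, helper905; report of helper953): the family, first part

A finite group `X` acts faithfully and irreducibly on the `F_2`-space `M`; `ι` is a transitive `X`-set of points
`pt : ι → M`; `A i` (`i : ι`) is an equivariant family of nontrivial quadratic subgroups with
`|A i| ≥ |M : E i|`, `E i = C_M(A i)`, `R i = [M, A i]`, such that `R i ∩ R j = 0` whenever `⟨A i, A j⟩` is not a
2-group (`NC A i j`).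

* `Fam.rank` : `[M, a] = R i` for `a ∈ A i`, `a ≠ 1`;
* `Fam.card_mul_le` : `|B| |C_M(B)| ≤ |M|` for `B ≤ A i`;
* `Fam.surj` : `[v, A i] = R i` for `v ∉ E i`;
* `Fam.inf_E` : `NC A i j → R j ⊓ E i = ⊥`;
* `Fam.le_or_le` : `¬ NC A i j → R i ≤ E j ∨ R j ≤ E i`;
* `Fam.le_of_ne` : `R i ⊓ R j ≠ ⊥ → R i ≤ E j`;
* `Fam.inj_or` : for `NC A i j`, `a ∈ A i` is trivial or injective on `R j`.
-/

set_option autoImplicit false

namespace Cfsg.Agent.Omega.NOThreeL.ThmR

open Subgroup

variable {X M ι : Type*} [Group X] [AddCommGroup M] [DistribMulAction X M] [MulAction X ι]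

/-- the fixed points of `B` -/
def fx (M : Type*) [AddCommGroup M] [DistribMulAction X M] (B : Subgroup X) : AddSubgroup M where
  carrier := {m | ∀ b ∈ B, b • m = m}
  zero_mem' := fun b _ => smul_zero b
  add_mem' := fun {u v} hu hv b hb => by rw [smul_add, hu b hb, hv b hb]
  neg_mem' := fun {u} hu b hb => by rw [smul_neg, hu b hb]

/-- the commutator `[M, B]` -/
def cm (M : Type*) [AddCommGroup M] [DistribMulAction X M] (B : Subgroup X) : AddSubgroup M :=
  AddSubgroup.closure {x | ∃ b ∈ B, ∃ m : M, x = b • m + m}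

theorem mem_fx {B : Subgroup X} {m : M} : m ∈ fx M B ↔ ∀ b ∈ B, b • m = m := Iff.rfl

theorem mem_cm {B : Subgroup X} {b : X} (hb : b ∈ B) (m : M) : b • m + m ∈ cm M B :=
  AddSubgroup.subset_closure ⟨b, hb, m, rfl⟩

/-- `⟨A i, A j⟩` is not a 2-group -/
def NC (A : ι → Subgroup X) (i j : ι) : Prop := ¬ IsPGroup 2 (A i ⊔ A j : Subgroup X)

omit [MulAction X ι] in
theorem NC.symm {A : ι → Subgroup X} {i j : ι} (h : NC A i j) : NC A j i := by
  unfold NC at h ⊢
  rwa [sup_comm]

/-- The family of THEOREM R. -/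
structure Fam (A : ι → Subgroup X) (pt : ι → M) : Prop where
  two : ∀ m : M, m + m = 0
  faith : ∀ g : X, (∀ m : M, g • m = m) → g = 1
  irr : ∀ N : AddSubgroup M, (∀ g : X, ∀ n ∈ N, g • n ∈ N) → N = ⊥ ∨ N = ⊤
  trans : ∀ i j : ι, ∃ g : X, g • i = j
  inj : ∀ i j : ι, pt i = pt j → i = j
  eqpt : ∀ (g : X) (i : ι), pt (g • i) = g • pt i
  eqv : ∀ (g : X) (i : ι) (a : X), a ∈ A i → g * a * g⁻¹ ∈ A (g • i)
  ne : ∀ i : ι, ∃ a ∈ A i, a ≠ 1
  quad : ∀ i : ι, ∀ a ∈ A i, ∀ b ∈ A i, ∀ m : M, a • (b • m + m) = b • m + m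
  card : ∀ i : ι, Nat.card M ≤ Nat.card (A i) * Nat.card (fx M (A i))
  ptR : ∀ i : ι, pt i ∈ cm M (A i)
  pt0 : ∀ i : ι, pt i ≠ 0
  sharp : ∀ i j : ι, NC A i j → cm M (A i) ⊓ cm M (A j) = ⊥

namespace Fam

variable {A : ι → Subgroup X} {pt : ι → M}

/-! ### Elementary facts -/

theorem neg (f : Fam A pt) (m : M) : -m = m := by
  have := f.two m
  exact neg_eq_of_add_eq_zero_left this

theorem eq_of_add (f : Fam A pt) {m n : M} (h : m + n = 0) : m = n := by
  rw [← f.neg n]
  exact eq_neg_of_add_eq_zero_left h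

theorem add_add (f : Fam A pt) (m n : M) : m + (m + n) = n := by rw [← add_assoc, f.two, zero_add]

theorem eqv' (f : Fam A pt) {g : X} {i : ι} {a : X} (h : a ∈ A (g • i)) : g⁻¹ * a * g ∈ A i := by
  have := f.eqv g⁻¹ (g • i) a h
  rwa [inv_smul_smul, inv_inv] at this

theorem sq (f : Fam A pt) {i : ι} {a : X} (h : a ∈ A i) : a * a = 1 := by
  apply f.faith
  intro m
  have h1 := f.quad i a h a h m
  rw [smul_add] at h1
  rw [mul_smul]
  have h2 : a • a • m + a • m + (a • m + m) = 0 := by rw [h1, f.two]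
  have h3 : a • a • m + m = 0 := by
    rw [← h2]
    have := f.two (a • m)
    calc a • a • m + m = a • a • m + (a • m + a • m) + m := by rw [this, add_zero]
      _ = _ := by abel
  exact f.eq_of_add h3

theorem inv (f : Fam A pt) {i : ι} {a : X} (h : a ∈ A i) : a⁻¹ = a := inv_eq_of_mul_eq_one_left (f.sq h)

theorem mul_D (f : Fam A pt) {i : ι} {a b : X} (ha : a ∈ A i) (hb : b ∈ A i) (m : M) :
    (a * b) • m + m = (a • m + m) + (b • m + m) := by
  have h1 := f.quad i a ha b hb m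
  rw [smul_add] at h1
  rw [mul_smul]
  have h2 : a • b • m = b • m + m + a • m := by
    rw [← h1, add_assoc, f.two, add_zero]
  rw [h2]
  abel

theorem comm (f : Fam A pt) {i : ι} {a b : X} (ha : a ∈ A i) (hb : b ∈ A i) : a * b = b * a := by
  have h1 : (a * b) * (a * b) = 1 := f.sq (mul_mem ha hb)
  have h2 : (a * b)⁻¹ = a * b := inv_eq_of_mul_eq_one_left h1
  rw [mul_inv_rev, f.inv ha, f.inv hb] at h2
  exact h2.symm

theorem two_group (f : Fam A pt) (i : ι) : IsPGroup 2 (A i) := by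
  intro a
  refine ⟨1, ?_⟩
  rw [pow_one, pow_two]
  exact Subtype.ext (f.sq a.2)

theorem mem_E (f : Fam A pt) {i : ι} {r : M} (h : r ∈ cm M (A i)) : r ∈ fx M (A i) := by
  have h1 : cm M (A i) ≤ fx M (A i) := by
    unfold cm
    rw [AddSubgroup.closure_le]
    rintro _ ⟨b, hb, m, rfl⟩ a ha
    exact f.quad i a ha b hb m
  exact h1 h

theorem smul_E (f : Fam A pt) (g : X) {i : ι} {e : M} : g • e ∈ fx M (A (g • i)) ↔ e ∈ fx M (A i) := by
  constructor
  · intro h a ha
    have h1 := h _ (f.eqv g i a ha)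
    rw [mul_smul, mul_smul, inv_smul_smul] at h1
    exact smul_left_cancel g h1
  · intro h a ha
    have h1 := h _ (f.eqv' ha)
    rw [mul_smul, mul_smul] at h1
    have h2 : g • (g⁻¹ • a • g • e) = g • e := by rw [h1]
    rwa [smul_inv_smul] at h2

theorem smul_R' (f : Fam A pt) (g : X) {i : ι} {e : M} (h : e ∈ cm M (A i)) : g • e ∈ cm M (A (g • i)) := by
  unfold cm at h
  induction h using AddSubgroup.closure_induction with
  | mem x hx =>
    obtain ⟨b, hb, m, rfl⟩ := hx
    have h1 := mem_cm (M := M) (f.eqv g i b hb) (g • m)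
    rw [mul_smul, mul_smul, inv_smul_smul, ← smul_add] at h1
    exact h1
  | zero => rw [smul_zero]; exact zero_mem _
  | add x y _ _ h1 h2 => rw [smul_add]; exact add_mem h1 h2
  | neg x _ h1 => rw [smul_neg]; exact neg_mem h1

theorem smul_R (f : Fam A pt) (g : X) {i : ι} {e : M} : g • e ∈ cm M (A (g • i)) ↔ e ∈ cm M (A i) := by
  refine ⟨fun h => ?_, f.smul_R' g⟩
  have := f.smul_R' g⁻¹ h
  rwa [inv_smul_smul, inv_smul_smul] at this

theorem map_conj (f : Fam A pt) (g : X) (i : ι) : (A i).map (MulAut.conj g).toMonoidHom = A (g • i) := by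
  ext x
  rw [Subgroup.mem_map]
  constructor
  · rintro ⟨a, ha, rfl⟩
    exact f.eqv g i a ha
  · intro hx
    refine ⟨g⁻¹ * x * g, f.eqv' hx, ?_⟩
    simp [mul_assoc]

theorem nc_smul (f : Fam A pt) (g : X) {i j : ι} (h : NC A i j) : NC A (g • i) (g • j) := by
  unfold NC at h ⊢
  intro h1
  apply h
  rw [← f.map_conj g i, ← f.map_conj g j, ← Subgroup.map_sup] at h1
  exact IsPGroup.of_injective h1 ((A i ⊔ A j).equivMapOfInjective _ (MulAut.conj g).injective).toMonoidHom
    ((A i ⊔ A j).equivMapOfInjective _ (MulAut.conj g).injective).injective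

theorem fix_of (f : Fam A pt) {i j : ι} {a : X} (h : a • pt j = pt j) (_ : a ∈ A i) : a • j = j :=
  f.inj _ _ (by rw [f.eqpt, h])

theorem card_R [Finite M] (f : Fam A pt) (i j : ι) : Nat.card (cm M (A i)) = Nat.card (cm M (A j)) := by
  obtain ⟨g, rfl⟩ := f.trans i j
  refine Nat.card_congr
    { toFun := fun x => ⟨g • (x : M), f.smul_R' g x.2⟩
      invFun := fun x => ⟨g⁻¹ • (x : M), by
        have := f.smul_R' g⁻¹ x.2
        rwa [inv_smul_smul] at this⟩
      left_inv := fun x => Subtype.ext (inv_smul_smul g (x : M))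
      right_inv := fun x => Subtype.ext (smul_inv_smul g (x : M)) }

theorem card_E [Finite M] (f : Fam A pt) (i j : ι) : Nat.card (fx M (A i)) = Nat.card (fx M (A j)) := by
  obtain ⟨g, rfl⟩ := f.trans i j
  refine Nat.card_congr
    { toFun := fun x => ⟨g • (x : M), (f.smul_E g).2 x.2⟩
      invFun := fun x => ⟨g⁻¹ • (x : M), by
        rw [← f.smul_E g, smul_inv_smul]; exact x.2⟩
      left_inv := fun x => Subtype.ext (inv_smul_smul g (x : M))
      right_inv := fun x => Subtype.ext (smul_inv_smul g (x : M)) }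

end Fam

end Cfsg.Agent.Omega.NOThreeL.ThmR
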