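import Cfsg.Agent.Omega.NOThreeL.ThmR.Pair

/-!
# THEOREM R (bb #17297, #17738): the swap elements; the case `|R i| < |A i|`

* `Fam.five` : every nonzero `v ∈ R i` is a point `pt k` with `R k = R i`, `E k = E i`;
* `Fam.exists_ne` : if `|R i| < |A i|`, then `C_M(ax i j)` depends on `j`;
* `Fam.eq_of_ne` : `C_M(ax i x) ≠ C_M(ax i y)` implies `E i ⊓ E x = E i ⊓ E y`;
* `Fam.E_le_R` : if `|R i| < |A i|`, then `E i = R i`;
* `Fam.false_of_less` : THEOREM R for `|R i| < |A i|`.
-/

set_option autoImplicit false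
set_option linter.style.haveILetI false
set_option linter.unusedSectionVars false
set_option linter.unusedVariables false

namespace Cfsg.Agent.Omega.NOThreeL.ThmR

open Subgroup

variable {X M ι : Type*} [Group X] [AddCommGroup M] [DistribMulAction X M] [MulAction X ι]

namespace Fam

variable {A : ι → Subgroup X} {pt : ι → M}

theorem exists_nc [Finite X] [Finite M] (f : Fam A pt) (i : ι) : ∃ j : ι, NC A i j := by
  obtain ⟨a, ha, ha1⟩ := f.ne i
  obtain ⟨j, b, hb, h1, h2⟩ := f.exists_odd ha ha1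
  exact ⟨j, nc_of_odd (mul_mem (Subgroup.mem_sup_left ha) (Subgroup.mem_sup_right hb)) h1 h2⟩

theorem nc_iff (f : Fam A pt) (g : X) {i j : ι} : NC A (g • i) (g • j) ↔ NC A i j := by
  refine ⟨fun h => ?_, f.nc_smul g⟩
  have := f.nc_smul g⁻¹ h
  rwa [inv_smul_smul, inv_smul_smul] at this

/-! ### The swap elements -/

/-- the element `a b a` -/
theorem swap (f : Fam A pt) {i j : ι} {a b : X} (ha : a ∈ A i) (hb : b ∈ A j)
    (h1 : ∀ y ∈ cm M (A i), a • (b • y + y) + (b • y + y) = y)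
    (h2 : ∀ w ∈ cm M (A j), b • (a • w + w) + (a • w + w) = w) :
    (∀ y ∈ cm M (A i), (a * b * a) • y = b • y + y) ∧ (∀ w ∈ cm M (A j), (a * b * a) • w = a • w + w) ∧
      ∀ z ∈ fx M (A i) ⊓ fx M (A j), (a * b * a) • z = z := by
  refine ⟨?_, ?_, ?_⟩
  · intro y hy
    have hay : a • y = y := f.mem_E hy a ha
    have h3 := h1 y hy
    set B := b • y + y with hB
    have hby : b • y = y + B := by rw [hB, add_comm (b • y) y, f.add_add]
    have haB : a • B = y + B := by rw [← h3, add_assoc, f.two, add_zero]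
    rw [mul_smul, mul_smul, hay, hby, smul_add, hay, haB, f.add_add]
  · intro w hw
    have hbw : b • w = w := f.mem_E hw b hb
    have h3 := h2 w hw
    set C := a • w + w with hC
    have haw : a • w = w + C := by rw [hC, add_comm (a • w) w, f.add_add]
    have hbC : b • C = w + C := by rw [← h3, add_assoc, f.two, add_zero]
    have haC : a • C = C := f.mem_E (mem_cm ha w) a ha
    rw [mul_smul, mul_smul, haw, smul_add, hbw, hbC, f.add_add, haC]
  · rintro z ⟨hz1, hz2⟩
    rw [mul_smul, mul_smul, hz1 a ha, hz2 b hb, hz1 a ha]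

/-- (5), the element -/
theorem five_aux [Finite X] [Finite M] (f : Fam A pt) {i j : ι} (h : NC A i j) {v : M}
    (hv : v ∈ cm M (A i)) (hv0 : v ≠ 0) : ∃ g ∈ A i ⊔ A j, g • pt i = v ∧
      (∀ y ∈ cm M (A i), g • y ∈ cm M (A i)) ∧ ∀ z ∈ fx M (A i) ⊓ fx M (A j), g • z = z := by
  have hj : pt j ∉ fx M (A i) := fun h0 => f.pt0 j (f.inf_E h (f.ptR j) h0)
  obtain ⟨a', ha', ha'1⟩ := f.surj hj (f.ptR i)
  obtain ⟨a, ha, ha1⟩ := f.surj hj hv
  have hax' : a' ∉ ax M A i j := by
    intro h0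
    rw [h0.2 _ (f.ptR j), f.two] at ha'1
    exact f.pt0 i ha'1.symm
  have hax : a ∉ ax M A i j := by
    intro h0
    rw [h0.2 _ (f.ptR j), f.two] at ha1
    exact hv0 ha1.symm
  obtain ⟨b', hb', h1', h2'⟩ := f.partner h ha' hax'
  obtain ⟨b, hb, h1, h2⟩ := f.partner h ha hax
  obtain ⟨s1', s2', s3'⟩ := f.swap ha' hb' h1' h2'
  obtain ⟨s1, s2, s3⟩ := f.swap ha hb h1 h2
  have hmem : ∀ {a b : X}, a ∈ A i → b ∈ A j → a * b * a ∈ A i ⊔ A j := fun ha hb =>
    mul_mem (mul_mem (Subgroup.mem_sup_left ha) (Subgroup.mem_sup_right hb)) (Subgroup.mem_sup_left ha)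
  refine ⟨(a * b * a) * (a' * b' * a'), mul_mem (hmem ha hb) (hmem ha' hb'), ?_, ?_, ?_⟩
  · rw [mul_smul, s1' _ (f.ptR i), ← ha'1, h2' _ (f.ptR j), s2 _ (f.ptR j), ha1]
  · intro y hy
    rw [mul_smul, s1' _ hy, s2 _ (mem_cm hb' y)]
    exact mem_cm ha _
  · intro z hz
    rw [mul_smul, s3' z hz, s3 z hz]

/-- (5) -/
theorem five [Finite X] [Finite M] (f : Fam A pt) {i : ι} {v : M} (hv : v ∈ cm M (A i)) (hv0 : v ≠ 0) :
    ∃ k : ι, pt k = v ∧ cm M (A k) = cm M (A i) ∧ fx M (A k) = fx M (A i) := by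
  obtain ⟨j, h⟩ := f.exists_nc i
  obtain ⟨g, -, hg, h1, h2⟩ := f.five_aux h hv hv0
  refine ⟨g • i, by rw [f.eqpt, hg], ?_, ?_⟩
  · refine AddSubgroup.eq_of_le_of_card_ge ?_ (f.card_R i (g • i)).le
    intro x hx
    have h3 : g⁻¹ • x ∈ cm M (A i) := by
      rw [← f.smul_R g, smul_inv_smul]; exact hx
    have := h1 _ h3
    rwa [smul_inv_smul] at this
  · refine AddSubgroup.eq_of_le_of_card_ge ?_ (f.card_E i (g • i)).le
    intro x hx
    have h3 : g⁻¹ • x ∈ fx M (A i) := by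
      rw [← f.smul_E g, smul_inv_smul]; exact hx
    obtain ⟨r, hr, z, hz, h4⟩ := f.E_decomp h h3
    have h5 : x = g • r + g • z := by rw [← smul_add, ← h4, smul_inv_smul]
    rw [h5, h2 z hz]
    exact add_mem (f.mem_E (h1 r hr)) hz.1

/-! ### The case `|R i| < |A i|` -/

theorem mem_ax_smul (f : Fam A pt) (g : X) {i j : ι} {a : X} (ha : a ∈ ax M A i j) :
    g * a * g⁻¹ ∈ ax M A (g • i) (g • j) := by
  refine ⟨f.eqv g i a ha.1, fun w hw => ?_⟩
  have h1 : g⁻¹ • w ∈ cm M (A j) := by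
    rw [← f.smul_R g, smul_inv_smul]; exact hw
  rw [mul_smul, mul_smul, ha.2 _ h1, smul_inv_smul]

theorem mem_Dm_smul (f : Fam A pt) (g : X) {i j : ι} {m : M} (hm : m ∈ fx M (ax M A i j)) :
    g • m ∈ fx M (ax M A (g • i) (g • j)) := by
  intro a ha
  have h1 := f.mem_ax_smul g⁻¹ ha
  rw [inv_smul_smul, inv_smul_smul, inv_inv] at h1
  have h2 := hm _ h1
  rw [mul_smul, mul_smul] at h2
  have h3 : g • (g⁻¹ • a • g • m) = g • m := by rw [h2]
  rwa [smul_inv_smul] at h3

theorem card_fx_ax_ge [Finite X] [Finite M] (f : Fam A pt) {i j : ι} (h : NC A i j) :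
    Nat.card (cm M (A i)) * Nat.card (fx M (A i)) ≤ Nat.card (fx M (ax M A i j)) := by
  rw [f.card_R i j, ← Nat.card_prod]
  refine Nat.card_le_card_of_injective (fun x : cm M (A j) × fx M (A i) =>
    (⟨(x.1 : M) + (x.2 : M), add_mem (f.R_le_fx_ax x.1.2) (f.E_le_fx_ax x.2.2)⟩ : fx M (ax M A i j))) ?_
  rintro ⟨p, q⟩ ⟨p', q'⟩ h0
  have h1 : (p : M) + q = p' + q' := congrArg Subtype.val h0
  have h2 : (p : M) - p' = q' - q := by
    rw [sub_eq_sub_iff_add_eq_add, h1, add_comm]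
  have h3 : (p : M) - p' = 0 := f.inf_E h (sub_mem p.2 p'.2) (by rw [h2]; exact sub_mem q'.2 q.2)
  have h4 : (q' : M) - q = 0 := by rw [← h2, h3]
  exact Prod.ext (Subtype.ext (sub_eq_zero.1 h3)) (Subtype.ext (sub_eq_zero.1 h4).symm)

/-- `C_M(ax i j)` depends on `j` -/
theorem exists_ne [Finite X] [Finite M] (f : Fam A pt) (i : ι)
    (hlt : Nat.card (cm M (A i)) < Nat.card (A i)) :
    ∃ x y : ι, NC A i x ∧ NC A i y ∧ fx M (ax M A i x) ≠ fx M (ax M A i y) := by
  by_contra hcon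
  push Not at hcon
  -- the same for every `k`
  have hall : ∀ k x y : ι, NC A k x → NC A k y → fx M (ax M A k x) ≤ fx M (ax M A k y) := by
    intro k x y hx hy m hm
    obtain ⟨g, rfl⟩ := f.trans i k
    have h1 := f.mem_Dm_smul g⁻¹ hm
    rw [inv_smul_smul] at h1
    have hx' : NC A i (g⁻¹ • x) := by
      have := f.nc_smul g⁻¹ hx
      rwa [inv_smul_smul] at this
    have hy' : NC A i (g⁻¹ • y) := by
      have := f.nc_smul g⁻¹ hy
      rwa [inv_smul_smul] at this
    rw [hcon _ _ hx' hy'] at h1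
    have h2 := f.mem_Dm_smul g h1
    rwa [smul_inv_smul, smul_inv_smul] at h2
  obtain ⟨j, hj⟩ := f.exists_nc i
  set W := fx M (ax M A i j) with hW
  have hcomp : ∀ z, Relation.ReflTransGen (NC A) i z → ∀ y, NC A z y → fx M (ax M A z y) = W := by
    intro z hz
    induction hz with
    | refl => exact fun y hy => le_antisymm (hall _ _ _ hy hj) (hall _ _ _ hj hy)
    | tail _ h1 ih =>
      intro y hy
      rw [← ih _ h1, f.fx_ax h1]
      exact le_antisymm (hall _ _ _ hy h1.symm) (hall _ _ _ h1.symm hy)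
  -- the group generated by the component
  let K : Subgroup X := Subgroup.closure {g | ∃ z, Relation.ReflTransGen (NC A) i z ∧ g ∈ A z}
  have hK : ∀ g ∈ K, ∀ m : M, g • m + m ∈ W := by
    intro g hg
    induction hg using Subgroup.closure_induction with
    | mem x hx =>
      obtain ⟨z, hz, hxz⟩ := hx
      intro m
      obtain ⟨y, hy⟩ := f.exists_nc z
      rw [← hcomp z hz y hy]
      exact f.R_le_fx_ax' (mem_cm hxz m)
    | one => intro m; rw [one_smul, f.two]; exact zero_mem _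
    | mul x y _ _ h1 h2 =>
      intro m
      have h3 := add_mem (h1 (y • m)) (h2 m)
      have h4 : x • y • m + y • m + (y • m + m) = (x * y) • m + m := by
        rw [mul_smul]
        have := f.two (y • m)
        calc x • y • m + y • m + (y • m + m) = x • y • m + (y • m + y • m) + m := by abel
          _ = _ := by rw [this, add_zero]
      rwa [h4] at h3
    | inv x _ h1 =>
      intro m
      have h2 := h1 (x⁻¹ • m)
      rw [smul_inv_smul, add_comm] at h2
      exact h2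
  have hKW : ∀ g ∈ K, ∀ w ∈ W, g • w ∈ W := by
    intro g hg w hw
    have h1 := add_mem (hK g hg w) hw
    rwa [add_assoc, f.two, add_zero] at h1
  obtain ⟨b, hb, hb1⟩ : ∃ b ∈ ax M A i j, b ≠ 1 := by
    by_contra h0
    push Not at h0
    have h1 : ax M A i j = ⊥ := (Subgroup.eq_bot_iff_forall _).2 h0
    have h2 := f.card_ax hj
    rw [h1, Subgroup.card_bot, one_mul] at h2
    omega
  obtain ⟨k, b', hb', h1, h2⟩ := f.exists_odd hb.1 hb1
  have hk : NC A i k := nc_of_odd (mul_mem (Subgroup.mem_sup_left hb.1) (Subgroup.mem_sup_right hb')) h1 h2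
  have hb'K : b' ∈ K := Subgroup.subset_closure ⟨k, Relation.ReflTransGen.single hk, hb'⟩
  have hbK : b ∈ K := Subgroup.subset_closure ⟨i, Relation.ReflTransGen.refl, hb.1⟩
  -- elements of `K` trivial on `W` have order 2
  have hsq : ∀ g ∈ K, (∀ w ∈ W, g • w = w) → g * g = 1 := by
    intro g hg hgW
    apply f.faith
    intro m
    have h3 := hgW _ (hK g hg m)
    rw [smul_add] at h3
    have h4 : g • g • m + g • m + (g • m + m) = 0 := by rw [h3, f.two]
    have h5 : g • g • m + m = 0 := by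
      rw [← h4]
      have := f.two (g • m)
      calc g • g • m + m = g • g • m + (g • m + g • m) + m := by rw [this, add_zero]
        _ = _ := by abel
    rw [mul_smul]
    exact f.eq_of_add h5
  have hbW : ∀ w ∈ W, b • w = w := fun w hw => hw b hb
  have hgK : b * (b' * b * b'⁻¹) ∈ K := mul_mem hbK (mul_mem (mul_mem hb'K hbK) (inv_mem hb'K))
  have hgW : ∀ w ∈ W, (b * (b' * b * b'⁻¹)) • w = w := by
    intro w hw
    rw [mul_smul, mul_smul, mul_smul, hbW _ (hKW _ (inv_mem hb'K) w hw), smul_inv_smul, hbW w hw]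
  have h4 := hsq _ hgK hgW
  have h5 : (b * b') * (b * b') = b * (b' * b * b'⁻¹) := by
    rw [f.inv hb']; simp only [mul_assoc]
  have h6 : (b * b') ^ 4 = 1 := by
    rw [show (4 : ℕ) = 2 * 2 by norm_num, pow_mul, pow_two, pow_two, h5, h4]
  have h7 : orderOf (b * b') ∣ 2 ^ 2 := orderOf_dvd_of_pow_eq_one (by norm_num [h6])
  have h8 : orderOf (b * b') = 1 :=
    Nat.Coprime.eq_one_of_dvd ((Nat.coprime_two_right.2 h2).pow_right 2) h7
  exact h1 (orderOf_eq_one_iff.1 h8)

/-- (B) -/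
theorem le_of_Dm_ne [Finite X] [Finite M] (f : Fam A pt) {i x y : ι} (hx : NC A i x) (hy : NC A i y)
    (hne : fx M (ax M A i x) ≠ fx M (ax M A i y)) {z : M} (hz : z ∈ fx M (A i)) (hzx : z ∈ fx M (A x)) :
    z ∈ fx M (A y) := by
  -- disjointness
  have key : ∀ {x y : ι}, NC A i x → NC A i y → fx M (ax M A i x) ≠ fx M (ax M A i y) →
      ∀ v ∈ cm M (A y), v ∈ fx M (ax M A i x) → v = 0 := by
    intro x y hx hy hne v hv hvx
    by_contra hv0
    apply hne
    have h1 : ax M A i x ≤ ax M A i y := fun a ha => f.inj_or hy ha.1 hv hv0 (hvx a ha)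
    have h2 : fx M (ax M A i y) ≤ fx M (ax M A i x) := fun m hm a ha => hm a (h1 ha)
    exact (AddSubgroup.eq_of_le_of_card_ge h2 ((f.card_fx_ax hx).trans (f.card_fx_ax_ge hy))).symm
  have h1 := key hx hy hne
  have h2 := key hy hx hne.symm
  have hxy : NC A x y := by
    by_contra hn
    rcases f.le_or_le hn with h | h
    · exact f.pt0 x (h2 _ (f.ptR x) (f.E_le_fx_ax' hy (h (f.ptR x))))
    · exact f.pt0 y (h1 _ (f.ptR y) (f.E_le_fx_ax' hx (h (f.ptR y))))
  obtain ⟨e, he, hey⟩ : ∃ e ∈ ax M A x i, e • pt y ≠ pt y := by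
    by_contra h0
    push Not at h0
    have h3 : pt y ∈ fx M (ax M A x i) := h0
    rw [← f.fx_ax hx] at h3
    exact f.pt0 y (h1 _ (f.ptR y) h3)
  obtain ⟨z1, hz1, z2, hz2, rfl⟩ := f.E_decomp hy hz
  have h3 : e • (z1 + z2) = z1 + z2 := hzx e he.1
  rw [smul_add, he.2 z1 hz1] at h3
  have h4 : e • z2 = z2 := add_left_cancel h3
  obtain ⟨r, hr, w, hw, h5⟩ := f.E_decomp hxy.symm hz2.2
  have h6 : e • w = w := hw.2 e he.1
  have h7 : e • r = r := by
    rw [h5, smul_add, h6] at h4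
    exact add_right_cancel h4
  have h8 : r = 0 := by
    by_contra hr0
    exact hey ((f.inj_or hxy he.1 hr hr0 h7).2 _ (f.ptR y))
  have h9 : z2 ∈ fx M (A x) := by rw [h5, h8, zero_add]; exact hw.2
  have h10 : z1 ∈ fx M (A x) := by
    have := add_mem hzx h9
    rwa [add_assoc, f.two, add_zero] at this
  have h11 : z1 = 0 := f.inf_E hx.symm hz1 h10
  rw [h11, zero_add]
  exact hz2.2

/-- (C), first part: `E i ⊓ E x` does not depend on `x` -/
theorem le_E [Finite X] [Finite M] (f : Fam A pt) {i x y : ι}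
    (hlt : Nat.card (cm M (A i)) < Nat.card (A i)) (hx : NC A i x) (hy : NC A i y) {z : M}
    (hz : z ∈ fx M (A i)) (hzx : z ∈ fx M (A x)) : z ∈ fx M (A y) := by
  by_cases hne : fx M (ax M A i x) = fx M (ax M A i y)
  · obtain ⟨u, v, hu, hv, huv⟩ := f.exists_ne i hlt
    by_cases h1 : fx M (ax M A i x) = fx M (ax M A i u)
    · have h2 : fx M (ax M A i x) ≠ fx M (ax M A i v) := fun h => huv (h1.symm.trans h)
      have h3 := f.le_of_Dm_ne hx hv h2 hz hzx
      exact f.le_of_Dm_ne hv hy (by rw [← hne]; exact h2.symm) hz h3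
    · have h3 := f.le_of_Dm_ne hx hu h1 hz hzx
      exact f.le_of_Dm_ne hu hy (by rw [← hne]; exact fun h => h1 h.symm) hz h3
  · exact f.le_of_Dm_ne hx hy hne hz hzx

/-- the Sylow data -/
structure Syl (M : Type*) [AddCommGroup M] [DistribMulAction X M] (pt : ι → M) (S : Subgroup X) (c : ι) :
    Prop where
  two : IsPGroup 2 S
  fixc : ∀ s ∈ S, s • c = c
  fix : ∀ u : M, (∀ s ∈ S, s • u = u) → u = 0 ∨ u = pt c

/-- the component of `c` has no common fixed vector -/
theorem eq_zero_of_comp [Finite X] [Finite M] (f : Fam A pt) {S : Subgroup X} {c : ι} (s : Syl M pt S c)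
    {m : M} (hm : ∀ z, Relation.ReflTransGen (NC A) c z → m ∈ fx M (A z)) : m = 0 := by
  let W : AddSubgroup M :=
    { carrier := {m | ∀ z, Relation.ReflTransGen (NC A) c z → m ∈ fx M (A z)}
      zero_mem' := fun z _ => zero_mem _
      add_mem' := fun {u v} hu hv z hz => add_mem (hu z hz) (hv z hz)
      neg_mem' := fun {u} hu z hz => neg_mem (hu z hz) }
  by_contra hm0
  have hW : W ≠ ⊥ := by
    intro h
    have : m ∈ W := hm
    rw [h, AddSubgroup.mem_bot] at this
    exact hm0 this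
  have hcomp : ∀ g ∈ S, ∀ z, Relation.ReflTransGen (NC A) c z → Relation.ReflTransGen (NC A) c (g • z) := by
    intro g hg z hz
    induction hz with
    | refl => rw [s.fixc g hg]
    | tail _ h1 ih => exact ih.tail (f.nc_smul g h1)
  obtain ⟨w, hw, hw0, hws⟩ := f.exists_fix s.two hW (fun g hg w hw z hz => by
    have h1 := hw (g⁻¹ • z) (hcomp g⁻¹ (inv_mem hg) z hz)
    have := (f.smul_E g).2 h1
    rwa [smul_inv_smul] at this)
  rcases s.fix w hws with h | h
  · exact hw0 h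
  · obtain ⟨x, hx⟩ := f.exists_nc c
    have h1 : pt c ∈ fx M (A x) := by rw [← h]; exact hw x (Relation.ReflTransGen.single hx)
    exact f.pt0 c (f.inf_E hx.symm (f.ptR c) h1)

/-- `E c = R c` if `|R c| < |A c|` -/
theorem E_le_R [Finite X] [Finite M] (f : Fam A pt) {S : Subgroup X} {c : ι} (s : Syl M pt S c)
    (hlt : Nat.card (cm M (A c)) < Nat.card (A c)) : fx M (A c) ≤ cm M (A c) := by
  have hltall : ∀ k, Nat.card (cm M (A k)) < Nat.card (A k) := by
    intro k
    obtain ⟨g, rfl⟩ := f.trans c k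
    rw [← f.card_R c (g • c), ← f.map_conj g c]
    rw [Subgroup.card_map_of_injective (MulAut.conj g).injective]
    exact hlt
  intro e he
  obtain ⟨x, hx⟩ := f.exists_nc c
  obtain ⟨r, hr, z, hz, rfl⟩ := f.E_decomp hx he
  have h1 : ∀ k, Relation.ReflTransGen (NC A) c k → ∀ y, NC A k y → z ∈ fx M (A k) ∧ z ∈ fx M (A y) := by
    intro k hk
    induction hk with
    | refl => exact fun y hy => ⟨hz.1, f.le_E (hltall c) hx hy hz.1 hz.2⟩
    | tail _ h1 ih =>
      intro y hy
      obtain ⟨h2, h3⟩ := ih _ h1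
      exact ⟨h3, f.le_E (hltall _) h1.symm hy h3 h2⟩
  have h2 : z = 0 := f.eq_zero_of_comp s (fun k hk => by
    obtain ⟨y, hy⟩ := f.exists_nc k
    exact (h1 k hk y hy).1)
  rw [h2, add_zero]
  exact hr

/-- `R c` is not `X`-invariant -/
theorem not_inv (f : Fam A pt) {c : ι} (h : ∀ g : X, ∀ r ∈ cm M (A c), g • r ∈ cm M (A c)) : False := by
  rcases f.irr (cm M (A c)) h with h1 | h1
  · have := f.ptR c
    rw [h1, AddSubgroup.mem_bot] at this
    exact f.pt0 c this
  · obtain ⟨a, ha, ha1⟩ := f.ne c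
    apply ha1
    apply f.faith
    intro m
    have : m ∈ cm M (A c) := by rw [h1]; trivial
    exact f.mem_E this a ha

/-- the end: all points `g c`, `g ∈ P`, in `R c` is impossible -/
theorem false_of_mem [Finite X] [Finite M] (f : Fam A pt) {c : ι} {P : Set X}
    (hP : ∀ g ∈ P, pt (g • c) ∈ cm M (A c)) (hgen : ∀ Y : Subgroup X, P ⊆ Y → MulAction.stabilizer X c ≤ Y → Y = ⊤) :
    False := by
  let Y : Subgroup X :=
    { carrier := {g | ∀ r : M, g • r ∈ cm M (A c) ↔ r ∈ cm M (A c)}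
      one_mem' := fun r => by rw [one_smul]
      mul_mem' := fun {a b} ha hb r => by rw [mul_smul, ha, hb]
      inv_mem' := fun {a} ha r => by rw [← ha, smul_inv_smul] }
  have hstab : ∀ g : X, g • c = c → g ∈ Y := by
    intro g hg r
    have := f.smul_R g (i := c) (e := r)
    rwa [hg] at this
  have hPY : P ⊆ Y := by
    intro g hg r
    obtain ⟨k, hk, h1, -⟩ := f.five (hP g hg) (f.pt0 _)
    have h2 : k = g • c := f.inj _ _ hk
    rw [← h1, h2]
    rw [h2] at h1
    rw [f.smul_R g, h1]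
  have hY := hgen Y hPY (fun g hg => hstab g hg)
  refine f.not_inv (c := c) (fun g r hr => ?_)
  have : g ∈ Y := by rw [hY]; trivial
  exact (this r).2 hr

/-- **THEOREM R, case `|R c| < |A c|`.** -/
theorem false_of_less [Finite X] [Finite M] (f : Fam A pt) {S : Subgroup X} {c : ι} (s : Syl M pt S c)
    (hlt : Nat.card (cm M (A c)) < Nat.card (A c)) {P : Set X} (hP : ∀ g ∈ P, pt (g • c) ∈ fx M (A c))
    (hgen : ∀ Y : Subgroup X, P ⊆ Y → MulAction.stabilizer X c ≤ Y → Y = ⊤) : False :=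
  f.false_of_mem (fun g hg => f.E_le_R s hlt (hP g hg)) hgen

end Fam

end Cfsg.Agent.Omega.NOThreeL.ThmR
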