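import Cfsg.Agent.Omega.NOThreeL.ThmR.Less

/-!
# THEOREM R (bb #17297, helper905; report #17738)

* `Fam.parity` : (6), the parity tool (TH);
* `Fam.eq_parts` : (7), the `R c`-part of `y` with respect to `E c = R c ⊕ (E c ⊓ E x)` does not depend on `x`;
* `Fam.mem_R` : `y ∈ R c` if `|A c| ≥ 4`, `|A c| = |R c|`;
* `Fam.theoremR` : **THEOREM R** : `|A c| = 2` and `R c = {0, pt c}` (so `A c` is generated by one transvection
  with centre `pt c`).
-/

set_option autoImplicit false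
set_option linter.style.haveILetI false
set_option linter.unusedSectionVars false
set_option linter.unusedVariables false

namespace Cfsg.Agent.Omega.NOThreeL.ThmR

open Subgroup

variable {X M ι : Type*} [Group X] [AddCommGroup M] [DistribMulAction X M] [MulAction X ι]

namespace Fam

variable {A : ι → Subgroup X} {pt : ι → M}

/-! ### (6) -/

/-- a 2-element of `K` is conjugate in `K` into `S ≤ K` of odd index -/
theorem exists_conj [Finite X] {S K : Subgroup X} (hSK : S ≤ K) (hidx : ¬ 2 ∣ S.index) {n : X} (hn : n ∈ K)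
    {k : ℕ} (h2 : n ^ 2 ^ k = 1) : ∃ x ∈ K, x⁻¹ * n * x ∈ S := by
  let Z : Subgroup K := Subgroup.zpowers ⟨n, hn⟩
  have hZ : IsPGroup 2 Z := by
    rintro ⟨z, hz⟩
    obtain ⟨m, rfl⟩ := Subgroup.mem_zpowers_iff.1 hz
    refine ⟨k, Subtype.ext (Subtype.ext ?_)⟩
    change (n ^ m) ^ 2 ^ k = 1
    rw [← zpow_natCast, ← zpow_mul, mul_comm, zpow_mul, zpow_natCast, h2, one_zpow]
  have hdvd : ¬ 2 ∣ Nat.card (K ⧸ S.subgroupOf K) := by
    change ¬ 2 ∣ (S.subgroupOf K).index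
    exact fun h => hidx (h.trans (Subgroup.relIndex_dvd_index_of_le hSK))
  obtain ⟨q, hq⟩ := hZ.nonempty_fixed_point_of_prime_not_dvd_card (K ⧸ S.subgroupOf K) hdvd
  obtain ⟨x, rfl⟩ := QuotientGroup.mk_surjective q
  refine ⟨x, x.2, ?_⟩
  have h1 := hq ⟨⟨n, hn⟩, Subgroup.mem_zpowers _⟩
  have h2 : (QuotientGroup.mk (⟨n, hn⟩ * x) : K ⧸ S.subgroupOf K) = QuotientGroup.mk x := h1
  rw [eq_comm, QuotientGroup.eq] at h2
  have h3 : ((x⁻¹ * (⟨n, hn⟩ * x) : K) : X) ∈ S := Subgroup.mem_subgroupOf.1 h2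
  simpa [mul_assoc] using h3

/-- **(6), parity.** -/
theorem parity [Finite X] (f : Fam A pt) {S : Subgroup X} {c : ι} (hidx : ¬ 2 ∣ S.index)
    (hSc : ∀ s ∈ S, s • c = c) {y : M} (hy : ∀ s ∈ S, s • y = y ∨ s • y = y + pt c) {g : X}
    (hgB : ∀ r ∈ cm M (A c), g • r = r) (hgy : g • y + y ∈ cm M (A c)) : g • y = y ∨ g • y = y + pt c := by
  let K : Subgroup X :=
    { carrier := {g | g • c = c ∧ g • y + y ∈ cm M (A c)}
      one_mem' := ⟨one_smul X c, by rw [one_smul, f.two]; exact zero_mem _⟩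
      mul_mem' := by
        rintro a b ⟨ha, ha'⟩ ⟨hb, hb'⟩
        refine ⟨by rw [mul_smul, hb, ha], ?_⟩
        have h1 : a • (b • y + y) ∈ cm M (A c) := by
          have := f.smul_R' a hb'
          rwa [ha] at this
        have h2 : (a * b) • y + y = a • (b • y + y) + (a • y + y) := by
          rw [mul_smul, smul_add]
          have := f.two (a • y)
          calc a • b • y + y = a • b • y + (a • y + a • y) + y := by rw [this, add_zero]
            _ = _ := by abel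
        rw [h2]
        exact add_mem h1 ha'
      inv_mem' := by
        rintro a ⟨ha, ha'⟩
        have ha2 : a⁻¹ • c = c := by rw [inv_smul_eq_iff, ha]
        refine ⟨ha2, ?_⟩
        have h1 : a⁻¹ • (a • y + y) ∈ cm M (A c) := by
          have := f.smul_R' a⁻¹ ha'
          rwa [ha2] at this
        rwa [smul_add, inv_smul_smul, add_comm] at h1 }
  have hSK : S ≤ K := by
    intro s hs
    refine ⟨hSc s hs, ?_⟩
    rcases hy s hs with h | h
    · rw [h, f.two]; exact zero_mem _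
    · have h1 : s • y + y = pt c := by rw [h, add_comm, f.add_add]
      rw [h1]
      exact f.ptR c
  have hgc : g • c = c := f.inj _ _ (by rw [f.eqpt, hgB _ (f.ptR c)])
  have hgK : g ∈ K := ⟨hgc, hgy⟩
  -- powers
  set b := g • y + y with hb
  have hgy' : g • y = y + b := by rw [hb, add_comm (g • y) y, f.add_add]
  have hgb : g • b = b := hgB b hgy
  have hpow : ∀ k : ℕ, g ^ (2 * k + 1) • y = g • y := by
    intro k
    induction k with
    | zero => rw [mul_zero, zero_add, pow_one]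
    | succ k ih =>
      rw [show 2 * (k + 1) + 1 = (2 * k + 1) + 2 by ring, add_comm (2 * k + 1) 2, pow_add, mul_smul, ih, pow_two,
        mul_smul, hgy', smul_add, hgy', hgb, add_assoc, f.two, add_zero]
      exact hgy'
  have hgB' : ∀ k : ℕ, ∀ r ∈ cm M (A c), g ^ k • r = r := by
    intro k r hr
    induction k with
    | zero => rw [pow_zero, one_smul]
    | succ k ih => rw [pow_succ, mul_smul, hgB r hr, ih]
  obtain ⟨k, m, hm, hkm⟩ := Nat.exists_eq_two_pow_mul_odd (orderOf_pos g).ne'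
  obtain ⟨l, hl⟩ := hm
  have h1 : (g ^ m) ^ 2 ^ k = 1 := by rw [← pow_mul, mul_comm, ← hkm, pow_orderOf_eq_one]
  obtain ⟨x, hx, hxS⟩ := exists_conj hSK hidx (pow_mem hgK m) h1
  have h2 : g ^ m • y = g • y := by rw [hl, hpow]
  have h3 : x⁻¹ ∈ K := inv_mem hx
  have h4 : x⁻¹ • c = c := h3.1
  have h5 : x⁻¹ • y + y ∈ cm M (A c) := h3.2
  set d := x⁻¹ • y + y with hd
  have h6 : x⁻¹ • y = y + d := by rw [hd, add_comm (x⁻¹ • y) y, f.add_add]
  -- the element `s = x⁻¹ gᵐ x` fixes `R c`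
  have h7 : ∀ r ∈ cm M (A c), (x⁻¹ * g ^ m * x) • r = r := by
    intro r hr
    have h8 : x • r ∈ cm M (A c) := by
      have := f.smul_R' x hr
      rwa [hx.1] at this
    rw [mul_smul, mul_smul, hgB' m _ h8, inv_smul_smul]
  have h8 : g ^ m • y = x • (x⁻¹ * g ^ m * x) • (x⁻¹ • y) := by
    rw [← mul_smul, ← mul_smul]
    congr 1
    group
  rw [← h2, h8, h6, smul_add, h7 d h5]
  rcases hy _ hxS with h | h
  · left
    rw [h, ← h6, smul_inv_smul]
  · right
    have h9 : y + pt c + d = (y + d) + pt c := by abel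
    rw [h, h9, ← h6, smul_add, smul_inv_smul, ← f.eqpt, hx.1]

/-! ### (7) -/

/-- for `|A i| ≤ |R i|`: `C_M(a) = E i` -/
theorem eq_one_of_fix [Finite X] [Finite M] (f : Fam A pt) {i : ι}
    (hge : Nat.card (A i) ≤ Nat.card (cm M (A i))) {a : X} (ha : a ∈ A i) {v : M} (hv : v ∉ fx M (A i))
    (hav : a • v = v) : a = 1 := by
  let F : A i → cm M (A i) := fun a => ⟨(a : X) • v + v, mem_cm a.2 v⟩
  have hF : Function.Surjective F := by
    rintro ⟨r, hr⟩
    obtain ⟨a, ha, h⟩ := f.surj hv hr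
    exact ⟨⟨a, ha⟩, Subtype.ext h⟩
  have hb : Function.Bijective F := hF.bijective_of_nat_card_le hge
  have h1 : F ⟨a, ha⟩ = F 1 := by
    apply Subtype.ext
    change a • v + v = (1 : X) • v + v
    rw [hav, one_smul]
  exact congrArg Subtype.val (hb.1 h1)

theorem not_mem_ax [Finite X] [Finite M] (f : Fam A pt) {i j : ι} (h : NC A i j)
    (hge : Nat.card (A i) ≤ Nat.card (cm M (A i))) {a : X} (ha : a ∈ A i) (ha1 : a ≠ 1) : a ∉ ax M A i j := by
  intro h0
  have hj : pt j ∉ fx M (A i) := fun h1 => f.pt0 j (f.inf_E h (f.ptR j) h1)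
  exact ha1 (f.eq_one_of_fix hge ha hj (h0.2 _ (f.ptR j)))

/-- the swap element `w` for `a ∈ A i`, `a ≠ 1` -/
theorem exists_w [Finite X] [Finite M] (f : Fam A pt) {i j : ι} (h : NC A i j)
    (hge : Nat.card (A i) ≤ Nat.card (cm M (A i))) {a : X} (ha : a ∈ A i) (ha1 : a ≠ 1) :
    ∃ w : X, (∀ y ∈ cm M (A i), w • y ∈ cm M (A j) ∧ a • w • y + w • y = y) ∧
      (∀ u ∈ cm M (A j), w • u = a • u + u) ∧ ∀ z ∈ fx M (A i) ⊓ fx M (A j), w • z = z := by
  obtain ⟨b, hb, h1, h2⟩ := f.partner h ha (f.not_mem_ax h hge ha ha1)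
  obtain ⟨s1, s2, s3⟩ := f.swap ha hb h1 h2
  refine ⟨a * b * a, fun y hy => ?_, s2, s3⟩
  rw [s1 y hy]
  exact ⟨mem_cm hb y, h1 y hy⟩

/-- the element `h_x(a,a')`: on `R i` it is `D a ∘ (D a')⁻¹`, it is trivial on `E i ⊓ E j` -/
theorem exists_h [Finite X] [Finite M] (f : Fam A pt) {i j : ι} (h : NC A i j)
    (hge : Nat.card (A i) ≤ Nat.card (cm M (A i))) {a a' : X} (ha : a ∈ A i) (ha1 : a ≠ 1) (ha' : a' ∈ A i)
    (ha'1 : a' ≠ 1) : ∃ g : X, (∀ t : M, g • (a' • t + t) = a • t + t) ∧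
      ∀ z ∈ fx M (A i) ⊓ fx M (A j), g • z = z := by
  obtain ⟨w, hw1, hw2, hw3⟩ := f.exists_w h hge ha ha1
  obtain ⟨w', hw1', hw2', hw3'⟩ := f.exists_w h hge ha' ha'1
  refine ⟨w * w', fun t => ?_, fun z hz => by rw [mul_smul, hw3' z hz, hw3 z hz]⟩
  obtain ⟨h1, h2⟩ := hw1' _ (mem_cm ha' t)
  rw [mul_smul, hw2 _ h1]
  -- `s := w' (D a' t)` satisfies `D a' s = D a' t`
  set s := w' • (a' • t + t) with hs
  have h3 : a' • (s + t) = s + t := by
    apply f.eq_of_add
    rw [smul_add]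
    have : a' • s + a' • t + (s + t) = (a' • s + s) + (a' • t + t) := by abel
    rw [this, h2, f.two]
  have h4 : s + t ∈ fx M (A i) := by
    by_contra h0
    exact ha'1 (f.eq_one_of_fix hge ha' h0 h3)
  have h5 := h4 a ha
  rw [smul_add] at h5
  apply f.eq_of_add
  have : a • s + s + (a • t + t) = (a • s + a • t) + (s + t) := by abel
  rw [this, h5, f.two]

/-- **(7), first part.** -/
theorem eq_parts [Finite X] [Finite M] (f : Fam A pt) {S : Subgroup X} {c : ι} (hidx : ¬ 2 ∣ S.index)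
    (hSc : ∀ s ∈ S, s • c = c) {y : M} (hy : ∀ s ∈ S, s • y = y ∨ s • y = y + pt c)
    (hge : Nat.card (A c) ≤ Nat.card (cm M (A c))) {a a' : X} (ha : a ∈ A c) (ha1 : a ≠ 1) (ha' : a' ∈ A c)
    (ha'1 : a' ≠ 1) (haa' : a ≠ a') {i j : ι} (hi : NC A c i) (hj : NC A c j) {r r' z z' : M}
    (hr : r ∈ cm M (A c)) (hr' : r' ∈ cm M (A c)) (hz : z ∈ fx M (A c) ⊓ fx M (A i))
    (hz' : z' ∈ fx M (A c) ⊓ fx M (A j)) (h1 : y = r + z) (h2 : y = r' + z') : r = r' := by
  -- for all `a, a'`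
  have key : ∀ a ∈ A c, a ≠ 1 → ∀ a' ∈ A c, a' ≠ 1 → ∀ s : M, a • s + s = r + r' →
      (a * a') • s + s = 0 ∨ (a * a') • s + s = pt c := by
    intro a ha ha1 a' ha' ha'1 s hs
    obtain ⟨g, hg1, hg2⟩ := f.exists_h hi hge ha ha1 ha' ha'1
    obtain ⟨g', hg1', hg2'⟩ := f.exists_h hj hge ha' ha'1 ha ha1
    have hfix : ∀ u ∈ cm M (A c), (g' * g) • u = u := by
      intro u hu
      obtain ⟨t, rfl⟩ := f.rank ha' ha'1 hu
      rw [mul_smul, hg1, hg1']
    have hy2 : (g' * g) • y = y + ((a * a') • s + s) := by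
      obtain ⟨t, ht⟩ := f.rank ha' ha'1 hr
      have e1 : z = (r + r') + z' := by
        have : z = r + y := by rw [h1, f.add_add]
        rw [this, h2, add_assoc]
      have e2 : g • y = (a • t + t) + ((a • s + s) + z') := by
        rw [h1, smul_add, hg2 z hz, ← ht, hg1, hs, ← e1]
      rw [mul_smul, e2, smul_add g' (a • t + t), smul_add g' (a • s + s), hg1' t, hg1' s, hg2' z' hz', ht,
        f.mul_D ha ha', hs]
      have e3 : y + (r + r' + (a' • s + s)) = (r' + r') + (r + (a' • s + s + z')) := by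
        nth_rw 1 [h2]; abel
      rw [e3, f.two, zero_add]
    have hmem : (g' * g) • y + y ∈ cm M (A c) := by
      rw [hy2, add_comm y, add_assoc, f.two, add_zero]
      exact mem_cm (mul_mem ha ha') s
    rcases f.parity hidx hSc hy hfix hmem with h | h
    · left
      rw [hy2] at h
      exact add_eq_left.1 h
    · right
      rw [hy2] at h
      exact add_left_cancel h
  by_contra hne
  have he : r + r' ≠ 0 := fun h => hne (f.eq_of_add h)
  obtain ⟨s, hs⟩ := f.rank ha ha1 (add_mem hr hr')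
  have hsE : s ∉ fx M (A c) := by
    intro h
    rw [h a ha, f.two] at hs
    exact he hs.symm
  have hnz : ∀ b ∈ A c, b ≠ 1 → b • s + s ≠ 0 := fun b hb hb1 h =>
    hb1 (f.eq_one_of_fix hge hb hsE (f.eq_of_add h))
  have h3 : a * a' ≠ 1 := by
    intro h
    apply haa'
    rw [← f.inv ha']
    exact mul_eq_one_iff_eq_inv.1 h
  have h4 : a * (a * a') = a' := by rw [← mul_assoc, f.sq ha, one_mul]
  rcases key a ha ha1 a' ha' ha'1 s hs with h5 | h5
  · exact hnz _ (mul_mem ha ha') h3 h5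
  rcases key a ha ha1 (a * a') (mul_mem ha ha') h3 s hs with h6 | h6
  · rw [h4] at h6
    exact hnz _ ha' ha'1 h6
  rw [h4] at h6
  have h7 := f.mul_D ha ha' s
  rw [h5, h6, hs] at h7
  have h8 : r + r' = 0 := by
    have h9 : pt c + pt c = r + r' + pt c + pt c := by
      nth_rw 1 [h7]
    rw [f.two, add_assoc, f.two, add_zero] at h9
    exact h9.symm
  exact he h8

/-- **(7), second part**: `y ∈ R c`. -/
theorem mem_R [Finite X] [Finite M] (f : Fam A pt) {S : Subgroup X} {c : ι} (s : Syl M pt S c)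
    (hidx : ¬ 2 ∣ S.index) {y : M} (hyE : y ∈ fx M (A c)) (hy : ∀ s ∈ S, s • y = y ∨ s • y = y + pt c)
    (hge : Nat.card (A c) ≤ Nat.card (cm M (A c))) {a a' : X} (ha : a ∈ A c) (ha1 : a ≠ 1) (ha' : a' ∈ A c)
    (ha'1 : a' ≠ 1) (haa' : a ≠ a') : y ∈ cm M (A c) := by
  obtain ⟨x, hx⟩ := f.exists_nc c
  obtain ⟨r, hr, z, hz, h1⟩ := f.E_decomp hx hyE
  -- the base
  have hbase : ∀ j, NC A c j → z ∈ fx M (A j) := by
    intro j hj
    obtain ⟨r', hr', z', hz', h2⟩ := f.E_decomp hj hyE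
    have h3 := f.eq_parts hidx s.fixc hy hge ha ha1 ha' ha'1 haa' hx hj hr hr' hz hz' h1 h2
    have h4 : z = z' := by
      rw [h1, h3] at h2
      exact add_left_cancel h2
    rw [h4]
    exact hz'.2
  have hgeall : ∀ k, Nat.card (A k) ≤ Nat.card (cm M (A k)) := by
    intro k
    obtain ⟨g, rfl⟩ := f.trans c k
    rw [← f.card_R c (g • c), ← f.map_conj g c, Subgroup.card_map_of_injective (MulAut.conj g).injective]
    exact hge
  have hstep : ∀ k l : ι, NC A k l → z ∈ fx M (A k) → (∀ j, NC A k j → z ∈ fx M (A j)) →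
      ∀ j, NC A l j → z ∈ fx M (A j) := by
    intro k l hkl hzk hk j hj
    obtain ⟨b, hb, hb1⟩ := f.ne k
    obtain ⟨w, hw1, hw2, hw3⟩ := f.exists_w hkl (hgeall k) hb hb1
    have hwz : w • z = z := hw3 z ⟨hzk, hk l hkl⟩
    have h2 : pt (w • k) ∈ cm M (A l) := by rw [f.eqpt]; exact (hw1 _ (f.ptR k)).1
    obtain ⟨k', hk', hR, hE⟩ := f.five h2 (f.pt0 _)
    have h3 : k' = w • k := f.inj _ _ hk'
    rw [h3] at hR hE
    have h4 : NC A (w • k) j := by
      by_contra hn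
      rcases f.le_or_le hn with h | h
      · rw [hR] at h
        exact f.pt0 l (f.inf_E hj.symm (f.ptR l) (h (f.ptR l)))
      · rw [hE] at h
        exact f.pt0 j (f.inf_E hj (f.ptR j) (h (f.ptR j)))
    have h5 : NC A k (w⁻¹ • j) := by
      have := f.nc_smul w⁻¹ h4
      rwa [inv_smul_smul] at this
    have h6 := (f.smul_E w).2 (hk _ h5)
    rwa [smul_inv_smul, hwz] at h6
  have hall : ∀ k, Relation.ReflTransGen (NC A) c k → z ∈ fx M (A k) ∧ ∀ j, NC A k j → z ∈ fx M (A j) := by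
    intro k hk
    induction hk with
    | refl => exact ⟨hz.1, hbase⟩
    | tail _ h2 ih => exact ⟨ih.2 _ h2, hstep _ _ h2 ih.1 ih.2⟩
  have h2 : z = 0 := f.eq_zero_of_comp s fun k hk => (hall k hk).1
  rw [h1, h2, add_zero]
  exact hr

/-- **THEOREM R.** -/
theorem theoremR [Finite X] [Finite M] (f : Fam A pt) {S : Subgroup X} {c : ι} (s : Syl M pt S c)
    (hidx : ¬ 2 ∣ S.index) {y : M} (hyE : y ∈ fx M (A c)) (hy : ∀ s ∈ S, s • y = y ∨ s • y = y + pt c)
    {P : Set X} (hP : ∀ g ∈ P, pt (g • c) = pt c ∨ pt (g • c) = y ∨ pt (g • c) = y + pt c)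
    (hgen : ∀ Y : Subgroup X, P ⊆ Y → MulAction.stabilizer X c ≤ Y → Y = ⊤) :
    (∀ a ∈ A c, ∀ a' ∈ A c, a ≠ 1 → a' ≠ 1 → a = a') ∧ ∀ r ∈ cm M (A c), r = 0 ∨ r = pt c := by
  have hcE : pt c ∈ fx M (A c) := f.mem_E (f.ptR c)
  have hge : Nat.card (A c) ≤ Nat.card (cm M (A c)) := by
    by_contra hlt
    push Not at hlt
    refine f.false_of_less s hlt (P := P) (fun g hg => ?_) hgen
    rcases hP g hg with h | h | h
    · rw [h]; exact hcE
    · rw [h]; exact hyE
    · rw [h]; exact add_mem hyE hcE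
  have h1 : ∀ a ∈ A c, ∀ a' ∈ A c, a ≠ 1 → a' ≠ 1 → a = a' := by
    intro a ha a' ha' ha1 ha'1
    by_contra hne
    have hyR := f.mem_R s hidx hyE hy hge ha ha1 ha' ha'1 hne
    refine f.false_of_mem (P := P) (fun g hg => ?_) hgen
    rcases hP g hg with h | h | h
    · rw [h]; exact f.ptR c
    · rw [h]; exact hyR
    · rw [h]; exact add_mem hyR (f.ptR c)
  refine ⟨h1, fun r hr => ?_⟩
  by_contra hcon
  push Not at hcon
  obtain ⟨x, hx⟩ := f.exists_nc c
  have hxE : pt x ∉ fx M (A c) := fun h0 => f.pt0 x (f.inf_E hx (f.ptR x) h0)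
  obtain ⟨a, ha, har⟩ := f.surj hxE hr
  obtain ⟨b, hb, hbr⟩ := f.surj hxE (f.ptR c)
  have ha1 : a ≠ 1 := by
    rintro rfl
    rw [one_smul, f.two] at har
    exact hcon.1 har.symm
  have hb1 : b ≠ 1 := by
    rintro rfl
    rw [one_smul, f.two] at hbr
    exact f.pt0 c hbr.symm
  rw [h1 a ha b hb ha1 hb1, hbr] at har
  exact hcon.2 har.symm

end Fam

end Cfsg.Agent.Omega.NOThreeL.ThmR
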