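import Cfsg.Agent.Omega.NOThreeL.ThmR.Rank

/-!
# THEOREM R (bb #17297): pairs `NC A i j`

* `Fam.inf_E` : `NC A i j → R j ⊓ E i = 0`;
* `Fam.le_or_le` : `¬ NC A i j → R i ≤ E j ∨ R j ≤ E i`;
* `Fam.le_of_ne` : `R i ⊓ R j ≠ 0 → R i ≤ E j`;
* `Fam.inj_or` : for `NC A i j`, `a ∈ A i` is trivial or injective on `R j`;
* `ax i j` : the centraliser of `R j` in `A i`; `Fam.decomp`, `Fam.decomp'` : `C_M(ax i j) = R j ⊕ E i = R i ⊕ E j`;
* `Fam.fx_ax` : `C_M(ax i j) = C_M(ax j i)`; `Fam.E_decomp` : `E i = R i ⊕ (E i ⊓ E j)`.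
-/

set_option autoImplicit false
set_option linter.style.haveILetI false
set_option linter.unusedSectionVars false
set_option linter.unusedVariables false

namespace Cfsg.Agent.Omega.NOThreeL.ThmR

open Subgroup

variable {X M ι : Type*} [Group X] [AddCommGroup M] [DistribMulAction X M] [MulAction X ι]

/-- the centraliser of `R j` in `A i` -/
def ax (M : Type*) [AddCommGroup M] [DistribMulAction X M] (A : ι → Subgroup X) (i j : ι) : Subgroup X where
  carrier := {a | a ∈ A i ∧ ∀ w ∈ cm M (A j), a • w = w}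
  one_mem' := ⟨one_mem _, fun w _ => one_smul X w⟩
  mul_mem' := fun {a b} ha hb => ⟨mul_mem ha.1 hb.1, fun w hw => by rw [mul_smul, hb.2 w hw, ha.2 w hw]⟩
  inv_mem' := fun {a} ha => ⟨inv_mem ha.1, fun w hw => by rw [inv_smul_eq_iff, ha.2 w hw]⟩

theorem mem_ax {A : ι → Subgroup X} {i j : ι} {a : X} :
    a ∈ ax M A i j ↔ a ∈ A i ∧ ∀ w ∈ cm M (A j), a • w = w := Iff.rfl

namespace Fam

variable {A : ι → Subgroup X} {pt : ι → M}

theorem fix_sup {i j : ι} {v : M} (hi : v ∈ fx M (A i)) (hj : v ∈ fx M (A j)) {g : X}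
    (hg : g ∈ A i ⊔ A j) : g • v = v := by
  have h1 : A i ⊔ A j ≤ MulAction.stabilizer X v := sup_le (fun a ha => hi a ha) (fun a ha => hj a ha)
  exact h1 hg

/-- Baer–Suzuki for the pair `A i`, `A j` -/
theorem not_nc_of [Finite X] (f : Fam A pt) {i j : ι} (h : ∀ g ∈ A i ⊔ A j, ¬ NC A j (g • j)) :
    ¬ NC A i j := by
  intro hnc
  apply hnc
  set L : Subgroup X := A i ⊔ A j with hL
  have h1 : ∀ g : L, IsPGroup 2 ((A j).subgroupOf L ⊔
      ((A j).subgroupOf L).map (MulAut.conj g).toMonoidHom : Subgroup L) := by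
    intro g
    have h2 : IsPGroup 2 (A j ⊔ A ((g : X) • j) : Subgroup X) := not_not.1 (h g g.2)
    have h3 : ((A j).subgroupOf L ⊔ ((A j).subgroupOf L).map (MulAut.conj g).toMonoidHom) ≤
        (A j ⊔ A ((g : X) • j)).comap L.subtype := by
      refine sup_le ?_ ?_
      · intro x hx
        exact Subgroup.mem_sup_left (Subgroup.mem_subgroupOf.1 hx)
      · rintro _ ⟨x, hx, rfl⟩
        refine Subgroup.mem_sup_right ?_
        exact f.eqv (g : X) j _ (Subgroup.mem_subgroupOf.1 hx)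
    intro x
    obtain ⟨k, hk⟩ := h2 ⟨((x : L) : X), h3 x.2⟩
    have hk' : ((x : L) : X) ^ 2 ^ k = 1 := by simpa using congrArg Subtype.val hk
    exact ⟨k, Subtype.ext (Subtype.ext hk')⟩
  have h2 := Cfsg.Agent.Involutions.BaerSuzuki.baer_suzuki_subgroup ((A j).subgroupOf L) h1
  have h3 : IsPGroup 2 ((A i).subgroupOf L) := by
    intro x
    obtain ⟨k, hk⟩ := f.two_group i ⟨((x : L) : X), Subgroup.mem_subgroupOf.1 x.2⟩
    have hk' : ((x : L) : X) ^ 2 ^ k = 1 := by simpa using congrArg Subtype.val hk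
    exact ⟨k, Subtype.ext (Subtype.ext hk')⟩
  have h4 : IsPGroup 2 ((A i).subgroupOf L ⊔ Subgroup.normalClosure (((A j).subgroupOf L : Subgroup L) : Set L) :
      Subgroup L) := IsPGroup.to_sup_of_normal_right h3 h2
  have h5 : (A i).subgroupOf L ⊔ Subgroup.normalClosure (((A j).subgroupOf L : Subgroup L) : Set L) = ⊤ := by
    rw [eq_top_iff]
    have h6 : (A i ⊔ A j).subgroupOf L = (A i).subgroupOf L ⊔ (A j).subgroupOf L :=
      Subgroup.subgroupOf_sup le_sup_left le_sup_right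
    rw [← hL, Subgroup.subgroupOf_self] at h6
    rw [h6]
    exact sup_le_sup_left (a := (A j).subgroupOf L) Subgroup.subset_normalClosure _
  rw [h5] at h4
  intro x
  obtain ⟨k, hk⟩ := h4 ⟨x, trivial⟩
  exact ⟨k, by simpa using congrArg Subtype.val hk⟩

/-- (2i) -/
theorem inf_E [Finite X] (f : Fam A pt) {i j : ι} (h : NC A i j) {v : M} (hj : v ∈ cm M (A j))
    (hi : v ∈ fx M (A i)) : v = 0 := by
  by_contra hv
  refine f.not_nc_of (i := i) (j := j) (fun g hg hnc => ?_) h
  have h1 : g • v = v := fix_sup hi (f.mem_E hj) hg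
  have h2 : v ∈ cm M (A (g • j)) := by
    have := f.smul_R' g hj
    rwa [h1] at this
  have h3 : v ∈ cm M (A j) ⊓ cm M (A (g • j)) := ⟨hj, h2⟩
  rw [f.sharp _ _ hnc, AddSubgroup.mem_bot] at h3
  exact hv h3

/-- (F4) -/
theorem le_or_le [Finite X] [Finite M] (f : Fam A pt) {i j : ι} (h : ¬ NC A i j) :
    cm M (A i) ≤ fx M (A j) ∨ cm M (A j) ≤ fx M (A i) := by
  by_contra hcon
  push Not at hcon
  obtain ⟨h1, h2⟩ := hcon
  obtain ⟨u, hu, hu'⟩ := SetLike.not_le_iff_exists.1 h1
  obtain ⟨v, hv, hv'⟩ := SetLike.not_le_iff_exists.1 h2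
  obtain ⟨b, hb, hbu⟩ := f.surj hu' hv
  obtain ⟨a, ha, hav⟩ := f.surj hv' hu
  have hau : a • u = u := f.mem_E hu a ha
  have hbv : b • v = v := f.mem_E hv b hb
  have hbu' : b • u = v + u := by rw [← hbu, add_assoc, f.two, add_zero]
  have hav' : a • v = u + v := by rw [← hav, add_assoc, f.two, add_zero]
  have e1 : (a * b) • u = v := by
    rw [mul_smul, hbu', smul_add, hav', hau, add_comm u v, add_assoc, f.two, add_zero]
  have e2 : (a * b) • v = u + v := by rw [mul_smul, hbv, hav']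
  have e3 : (a * b) ^ 3 • u = u := by
    rw [pow_succ, pow_two, mul_smul, mul_smul, e1, e2, smul_add, e1, e2, add_comm u v, ← add_assoc, f.two,
      zero_add]
  have e4 : ∀ q : ℕ, (a * b) ^ (3 * q) • u = u := by
    intro q
    induction q with
    | zero => rw [mul_zero, pow_zero, one_smul]
    | succ q ih => rw [mul_add, mul_one, pow_add, mul_smul, e3, ih]
  obtain ⟨k, hk⟩ := (not_not.1 h) ⟨a * b, mul_mem (Subgroup.mem_sup_left ha) (Subgroup.mem_sup_right hb)⟩
  have hk' : (a * b) ^ 2 ^ k = 1 := by simpa using congrArg Subtype.val hk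
  have hk4 : (a * b) ^ 4 ^ k = 1 := by
    rw [show (4 : ℕ) = 2 ^ 2 by norm_num, ← pow_mul, mul_comm, pow_mul, pow_two, pow_mul, hk', one_pow]
  obtain ⟨q, hq⟩ : ∃ q, 4 ^ k = 3 * q + 1 := by
    have : 4 ^ k % 3 = 1 := by rw [Nat.pow_mod]; norm_num
    exact ⟨4 ^ k / 3, by omega⟩
  have e5 : (a * b) • u = u := by
    have h5 : ((a * b) * (a * b) ^ (3 * q)) • u = u := by
      rw [← pow_succ', ← hq, hk4, one_smul]
    rwa [mul_smul, e4] at h5
  rw [e1] at e5
  rw [e5] at hv'
  exact hv' (f.mem_E hu)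

/-- a surjection `R i → R j` is injective -/
theorem zero_of_surj [Finite M] (f : Fam A pt) {i j : ι} {b : X} (hb : b ∈ A j)
    (hs : ∀ r ∈ cm M (A j), ∃ w ∈ cm M (A i), b • w + w = r) {v : M} (hv : v ∈ cm M (A i)) (hbv : b • v = v) :
    v = 0 := by
  let F : cm M (A i) → cm M (A j) := fun w => ⟨b • (w : M) + w, mem_cm hb _⟩
  have hF : Function.Surjective F := by
    rintro ⟨r, hr⟩
    obtain ⟨w, hw, hr'⟩ := hs r hr
    exact ⟨⟨w, hw⟩, Subtype.ext hr'⟩
  have hbij : Function.Bijective F := hF.bijective_of_nat_card_le (f.card_R i j).le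
  have h1 : F ⟨v, hv⟩ = F 0 := by
    apply Subtype.ext
    change b • v + v = b • (0 : M) + 0
    rw [hbv, f.two, smul_zero, add_zero]
  exact congrArg Subtype.val (hbij.1 h1)

/-- (F5) -/
theorem le_of_ne [Finite X] [Finite M] (f : Fam A pt) {i j : ι} {v : M} (hi : v ∈ cm M (A i))
    (hj : v ∈ cm M (A j)) (hv : v ≠ 0) : cm M (A i) ≤ fx M (A j) := by
  have hnc : ¬ NC A i j := by
    intro h
    have h1 : v ∈ cm M (A i) ⊓ cm M (A j) := ⟨hi, hj⟩
    rw [f.sharp _ _ h, AddSubgroup.mem_bot] at h1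
    exact hv h1
  rcases f.le_or_le hnc with h | h
  · exact h
  have key : ∀ a ∈ A i, ∀ b ∈ A j, ∀ m : M, b • (a • m + m) = a • m + m := by
    intro a ha b hb m
    have haj : a • j = j := f.fix_of (h (f.ptR j) a ha) ha
    have hfix : ∀ w ∈ cm M (A j), a • w = w := fun w hw => h hw a ha
    set B := b • m + m with hB
    set C := a • m + m with hC
    have hBm : b • m = m + B := by rw [hB, add_comm (b • m) m, f.add_add]
    have hCm : a • m = m + C := by rw [hC, add_comm (a • m) m, f.add_add]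
    have hBj : B ∈ cm M (A j) := mem_cm hb m
    have hCi : C ∈ cm M (A i) := mem_cm ha m
    have hbB : b • B = B := f.mem_E hBj b hb
    have haC : a • C = C := f.mem_E hCi a ha
    have haB : a • B = B := hfix B hBj
    set E := b • C + C with hE
    have hEj : E ∈ cm M (A j) := mem_cm hb C
    have hCb : b • C = C + E := by rw [hE, add_comm (b • C) C, f.add_add]
    have haE : a • E = E := hfix E hEj
    have hconj : a * b * a⁻¹ ∈ A j := by
      have := f.eqv a j b hb
      rwa [haj] at this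
    have he : a * b * a⁻¹ * b⁻¹ ∈ A j := mul_mem hconj (inv_mem hb)
    have hform : ∀ m : M, (a * b * a⁻¹ * b⁻¹) • m + m = b • (a • m + m) + (a • m + m) := by
      intro m
      rw [f.inv ha, f.inv hb, mul_smul, mul_smul, mul_smul]
      set B := b • m + m with hB
      set C := a • m + m with hC
      have hBm : b • m = m + B := by rw [hB, add_comm (b • m) m, f.add_add]
      have hCm : a • m = m + C := by rw [hC, add_comm (a • m) m, f.add_add]
      have hBj : B ∈ cm M (A j) := mem_cm hb m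
      have hCi : C ∈ cm M (A i) := mem_cm ha m
      have hbB : b • B = B := f.mem_E hBj b hb
      have haC : a • C = C := f.mem_E hCi a ha
      have haB : a • B = B := hfix B hBj
      set E := b • C + C with hE
      have hEj : E ∈ cm M (A j) := mem_cm hb C
      have hCb : b • C = C + E := by rw [hE, add_comm (b • C) C, f.add_add]
      have haE : a • E = E := hfix E hEj
      have h1 : a • b • m = m + C + B := by rw [hBm, smul_add, hCm, haB]
      have h2 : b • a • b • m = m + (C + E) := by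
        rw [h1, smul_add, smul_add, hBm, hCb, hbB]
        have := f.two B
        calc m + B + (C + E) + B = m + (C + E) + (B + B) := by abel
          _ = _ := by rw [this, add_zero]
      rw [h2, smul_add, smul_add, hCm, haC, haE]
      have h3 := f.two C
      have h4 := f.two m
      calc m + C + (C + E) + m = (m + m) + (C + C) + E := by abel
        _ = E := by rw [h3, h4, zero_add, zero_add]
    by_cases he1 : a * b * a⁻¹ * b⁻¹ = 1
    · have h5 := hform m
      rw [he1, one_smul, f.two] at h5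
      exact f.eq_of_add h5.symm
    · exfalso
      apply hv
      refine f.zero_of_surj (i := i) (j := j) hb ?_ hi (f.mem_E hj b hb)
      intro r hr
      obtain ⟨m', hm'⟩ := f.rank he he1 hr
      exact ⟨a • m' + m', mem_cm ha m', by rw [← hform m', hm']⟩
  unfold cm
  rw [AddSubgroup.closure_le]
  rintro _ ⟨a, ha, m, rfl⟩ b hb
  exact key a ha b hb m

/-- (F6) -/
theorem inj_or [Finite X] [Finite M] (f : Fam A pt) {i j : ι} (h : NC A i j) {a : X} (ha : a ∈ A i) {v : M}
    (hv : v ∈ cm M (A j)) (hv0 : v ≠ 0) (hav : a • v = v) : a ∈ ax M A i j := by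
  refine ⟨ha, fun w hw => ?_⟩
  have h1 : v ∈ cm M (A (a • j)) := by
    have := f.smul_R' a hv
    rwa [hav] at this
  have h2 : w ∈ fx M (A (a • j)) := f.le_of_ne hv h1 hv0 hw
  have h3 : a • w ∈ fx M (A j) := by
    rw [← f.inv ha]
    rw [← f.smul_E a, smul_inv_smul]
    exact h2
  have h4 : a • w + w ∈ fx M (A j) := add_mem h3 (f.mem_E hw)
  exact f.eq_of_add (f.inf_E h.symm (mem_cm ha w) h4)

theorem ax_le {i j : ι} : ax M A i j ≤ A i := fun _ h => h.1

/-- `|A i| ≤ |ax i j| |R i|` -/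
theorem card_ax [Finite X] [Finite M] (f : Fam A pt) {i j : ι} (h : NC A i j) :
    Nat.card (A i) ≤ Nat.card (ax M A i j) * Nat.card (cm M (A i)) := by
  let Φ : A i →* Multiplicative M :=
    { toFun := fun a => Multiplicative.ofAdd ((a : X) • pt j + pt j)
      map_one' := by
        change Multiplicative.ofAdd ((1 : X) • pt j + pt j) = 1
        rw [one_smul, f.two]; rfl
      map_mul' := fun a b => by
        change Multiplicative.ofAdd (((a : X) * (b : X)) • pt j + pt j) = _
        rw [f.mul_D a.2 b.2]; rfl }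
  have h1 : Nat.card Φ.ker * Nat.card Φ.range = Nat.card (A i) := by
    rw [← Subgroup.index_ker, Subgroup.card_mul_index]
  rw [← h1]
  refine Nat.mul_le_mul ?_ ?_
  · refine Nat.card_le_card_of_injective (fun a : Φ.ker => (⟨((a : A i) : X), ?_⟩ : ax M A i j)) ?_
    · have h2 : ((a : A i) : X) • pt j + pt j = 0 := a.2
      exact f.inj_or h (a : A i).2 (f.ptR j) (f.pt0 j) (f.eq_of_add h2)
    · intro a b hab
      exact Subtype.ext (Subtype.ext (congrArg (Subtype.val : ax M A i j → X) hab))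
  · refine Nat.card_le_card_of_injective
      (fun x : Φ.range => (⟨Multiplicative.toAdd (x : Multiplicative M), ?_⟩ : cm M (A i))) ?_
    · obtain ⟨a, ha⟩ := x.2
      rw [← ha]
      exact mem_cm a.2 _
    · intro x y hxy
      exact Subtype.ext (congrArg (Subtype.val : cm M (A i) → M) hxy)

theorem card_fx_ax [Finite X] [Finite M] (f : Fam A pt) {i j : ι} (h : NC A i j) :
    Nat.card (fx M (ax M A i j)) ≤ Nat.card (cm M (A i)) * Nat.card (fx M (A i)) := by
  have h1 := f.card_mul_le (i := i) (B := ax M A i j) ax_le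
  have h2 : Nat.card (ax M A i j) * Nat.card (fx M (ax M A i j)) ≤
      Nat.card (ax M A i j) * (Nat.card (cm M (A i)) * Nat.card (fx M (A i))) := by
    refine h1.trans ((f.card i).trans ?_)
    rw [← mul_assoc]
    exact Nat.mul_le_mul_right _ (f.card_ax h)
  exact Nat.le_of_mul_le_mul_left h2 Nat.card_pos

/-- a direct sum of the right order is everything -/
theorem decomp_aux [Finite M] (f : Fam A pt) {P Q W : AddSubgroup M} (hP : P ≤ W) (hQ : Q ≤ W)
    (hd : ∀ v ∈ P, v ∈ Q → v = 0) (hc : Nat.card W ≤ Nat.card P * Nat.card Q) {u : M} (hu : u ∈ W) :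
    ∃ p ∈ P, ∃ q ∈ Q, u = p + q := by
  let F : P × Q → W := fun x => ⟨(x.1 : M) + (x.2 : M), add_mem (hP x.1.2) (hQ x.2.2)⟩
  have hF : Function.Injective F := by
    rintro ⟨p, q⟩ ⟨p', q'⟩ h
    have h1 : (p : M) + q = p' + q' := congrArg Subtype.val h
    have h2 : (p : M) - p' = q' - q := by
      rw [sub_eq_sub_iff_add_eq_add, h1, add_comm]
    have h3 : (p : M) - p' = 0 := hd _ (sub_mem p.2 p'.2) (by rw [h2]; exact sub_mem q'.2 q.2)
    have h4 : (q' : M) - q = 0 := by rw [← h2, h3]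
    exact Prod.ext (Subtype.ext (sub_eq_zero.1 h3)) (Subtype.ext (sub_eq_zero.1 h4).symm)
  have hb : Function.Bijective F := hF.bijective_of_nat_card_le (by rw [Nat.card_prod]; exact hc)
  obtain ⟨⟨p, q⟩, h⟩ := hb.2 ⟨u, hu⟩
  exact ⟨p, p.2, q, q.2, (congrArg Subtype.val h).symm⟩

/-- `C_M(ax i j) = R j ⊕ E i` -/
theorem decomp [Finite X] [Finite M] (f : Fam A pt) {i j : ι} (h : NC A i j) {u : M}
    (hu : u ∈ fx M (ax M A i j)) : ∃ w ∈ cm M (A j), ∃ e ∈ fx M (A i), u = w + e := by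
  refine f.decomp_aux (W := fx M (ax M A i j)) ?_ ?_ (fun v h1 h2 => f.inf_E h h1 h2) ?_ hu
  · exact fun w hw a ha => ha.2 w hw
  · exact fun e he a ha => he a ha.1
  · rw [← f.card_R i j]
    exact f.card_fx_ax h

/-- `C_M(ax i j) = R i ⊕ E j` -/
theorem decomp' [Finite X] [Finite M] (f : Fam A pt) {i j : ι} (h : NC A i j) {u : M}
    (hu : u ∈ fx M (ax M A i j)) : ∃ w ∈ cm M (A i), ∃ e ∈ fx M (A j), u = w + e := by
  refine f.decomp_aux (W := fx M (ax M A i j)) ?_ ?_ (fun v h1 h2 => f.inf_E h.symm h1 h2) ?_ hu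
  · exact fun w hw a ha => f.mem_E hw a ha.1
  · intro e he a ha
    have h1 : a • j = j := f.fix_of (ha.2 _ (f.ptR j)) ha.1
    have h2 : a • e ∈ fx M (A j) := by
      have := (f.smul_E a).2 he
      rwa [h1] at this
    exact f.eq_of_add (f.inf_E h.symm (mem_cm ha.1 e) (add_mem h2 he))
  · rw [← f.card_E i j]
    exact f.card_fx_ax h

theorem R_le_fx_ax (f : Fam A pt) {i j : ι} : cm M (A j) ≤ fx M (ax M A i j) := fun w hw _ ha => ha.2 w hw

theorem E_le_fx_ax (f : Fam A pt) {i j : ι} : fx M (A i) ≤ fx M (ax M A i j) := fun e he a ha => he a ha.1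

theorem R_le_fx_ax' (f : Fam A pt) {i j : ι} : cm M (A i) ≤ fx M (ax M A i j) :=
  fun w hw a ha => f.mem_E hw a ha.1

theorem E_le_fx_ax' [Finite X] [Finite M] (f : Fam A pt) {i j : ι} (h : NC A i j) :
    fx M (A j) ≤ fx M (ax M A i j) := by
  intro e he a ha
  have h1 : a • j = j := f.fix_of (ha.2 _ (f.ptR j)) ha.1
  have h2 : a • e ∈ fx M (A j) := by
    have := (f.smul_E a).2 he
    rwa [h1] at this
  exact f.eq_of_add (f.inf_E h.symm (mem_cm ha.1 e) (add_mem h2 he))

/-- `C_M(ax i j) = C_M(ax j i)` -/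
theorem fx_ax [Finite X] [Finite M] (f : Fam A pt) {i j : ι} (h : NC A i j) :
    fx M (ax M A i j) = fx M (ax M A j i) := by
  have key : ∀ {i j : ι}, NC A i j → fx M (ax M A i j) ≤ fx M (ax M A j i) := by
    intro i j h u hu
    obtain ⟨w, hw, e, he, rfl⟩ := f.decomp h hu
    exact add_mem (f.R_le_fx_ax' hw) (f.E_le_fx_ax' h.symm he)
  exact le_antisymm (key h) (key h.symm)

/-- `E i = R i ⊕ (E i ⊓ E j)` -/
theorem E_decomp [Finite X] [Finite M] (f : Fam A pt) {i j : ι} (h : NC A i j) {e : M}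
    (he : e ∈ fx M (A i)) : ∃ r ∈ cm M (A i), ∃ z ∈ fx M (A i) ⊓ fx M (A j), e = r + z := by
  obtain ⟨r, hr, z, hz, h1⟩ := f.decomp' h (f.E_le_fx_ax (i := i) (j := j) he)
  refine ⟨r, hr, z, ⟨?_, hz⟩, h1⟩
  have : z = r + e := by rw [h1, f.add_add]
  rw [this]
  exact add_mem (f.mem_E hr) he

/-! ### The spread -/

/-- the partner of `a ∈ A i - ax i j` -/
theorem partner [Finite X] [Finite M] (f : Fam A pt) {i j : ι} (h : NC A i j) {a : X} (ha : a ∈ A i)
    (hax : a ∉ ax M A i j) : ∃ b ∈ A j, (∀ y ∈ cm M (A i), a • (b • y + y) + (b • y + y) = y) ∧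
      ∀ w ∈ cm M (A j), b • (a • w + w) + (a • w + w) = w := by
  set w₀ := pt j with hw₀
  have hw₀R : w₀ ∈ cm M (A j) := f.ptR j
  set u := a • w₀ + w₀ with hu
  have huR : u ∈ cm M (A i) := mem_cm ha _
  have hu0 : u ≠ 0 := fun h0 => hax (f.inj_or h ha hw₀R (f.pt0 j) (f.eq_of_add h0))
  have huE : u ∉ fx M (A j) := fun h0 => hu0 (f.inf_E h.symm huR h0)
  obtain ⟨b, hb, hbu⟩ := f.surj huE hw₀R
  have hbu' : b • u = a • w₀ := by
    have h1 : b • u = w₀ + u := by rw [← hbu, add_assoc, f.two, add_zero]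
    rw [h1, hu, add_comm (a • w₀) w₀, f.add_add]
  have h1 : b • u ∈ cm M (A (b • i)) := f.smul_R' b huR
  have h2 : b • u ∈ cm M (A (a • j)) := by rw [hbu']; exact f.smul_R' a hw₀R
  have h3 : b • u ≠ 0 := by
    intro h0
    apply hu0
    rwa [smul_eq_zero_iff_eq] at h0
  have h4 := f.le_of_ne h1 h2 h3
  have key : ∀ y ∈ cm M (A i), a • (b • y + y) + (b • y + y) = y := by
    intro y hy
    have h5 : b • y ∈ fx M (A (a • j)) := h4 (f.smul_R' b hy)
    have h6 : a • b • y ∈ fx M (A j) := by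
      rw [← f.inv ha, ← f.smul_E a, smul_inv_smul]
      exact h5
    set B := b • y + y with hB
    have hBj : B ∈ cm M (A j) := mem_cm hb y
    have hby : b • y = y + B := by rw [hB, add_comm (b • y) y, f.add_add]
    have hay : a • y = y := f.mem_E hy a ha
    rw [hby, smul_add, hay] at h6
    have h7 : y + (a • B + B) ∈ fx M (A j) := by
      have := add_mem h6 (f.mem_E hBj)
      rwa [add_assoc] at this
    have h8 : y + (a • B + B) ∈ cm M (A i) := add_mem hy (mem_cm ha B)
    exact (f.eq_of_add (f.inf_E h.symm h8 h7)).symm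
  refine ⟨b, hb, key, ?_⟩
  intro w hw
  let F : cm M (A i) → cm M (A j) := fun w => ⟨b • (w : M) + w, mem_cm hb _⟩
  have hF : Function.Injective F := by
    intro x y hxy
    have h5 : b • (x : M) + x = b • (y : M) + y := congrArg Subtype.val hxy
    have h6 := key x x.2
    rw [h5, key y y.2] at h6
    exact Subtype.ext h6.symm
  have hbij : Function.Bijective F := hF.bijective_of_nat_card_le (f.card_R i j).ge
  obtain ⟨y, hy⟩ := hbij.2 ⟨w, hw⟩
  have hy' : b • (y : M) + y = w := congrArg Subtype.val hy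
  rw [← hy', key y y.2]

end Fam

end Cfsg.Agent.Omega.NOThreeL.ThmR
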