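import Cfsg.Agent.Omega.NOThreeL.ThmR.Fam

/-!
# THEOREM R (bb #17297): the rank lemma and the counting lemma

* `Fam.exists_odd` : an involution of `A i` is the factor of a product of odd order with a member of some `A j`;
* `Fam.rank` : `[M, a] = R i` for `a ∈ A i`, `a ≠ 1`;
* `card_mul_le` : the duality count;
* `Fam.card_mul_le` : `|B| |C_M(B)| ≤ |M|` for `B ≤ A i`;
* `Fam.surj` : `[v, A i] = R i` for `v ∉ E i`.
-/

set_option autoImplicit false
set_option linter.style.haveILetI false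
set_option linter.unusedSectionVars false

namespace Cfsg.Agent.Omega.NOThreeL.ThmR

open Subgroup

variable {X M ι : Type*} [Group X] [AddCommGroup M] [DistribMulAction X M] [MulAction X ι]

/-- the map `m ↦ a m + m` -/
def D (M : Type*) [AddCommGroup M] [DistribMulAction X M] (a : X) : M →+ M where
  toFun m := a • m + m
  map_zero' := by rw [smul_zero, add_zero]
  map_add' u v := by rw [smul_add]; abel

@[simp] theorem D_apply (a : X) (m : M) : D M a m = a • m + m := rfl

/-- **The duality count.** -/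
theorem card_mul_le [Finite X] [Finite M] [Module (ZMod 2) M] (B : Subgroup X) (φ : M →+ ZMod 2)
    (N : AddSubgroup M)
    (hmul : ∀ b ∈ B, ∀ b' ∈ B, ∀ m : M, (b * b') • m + m = (b • m + m) + (b' • m + m))
    (hφ : ∀ b ∈ B, b ≠ 1 → ∃ m : M, φ (b • m + m) ≠ 0)
    (hN : ∀ n ∈ N, ∀ b ∈ B, φ (b • n + n) = 0) : Nat.card B * Nat.card N ≤ Nat.card M := by
  classical
  let N' : Submodule (ZMod 2) M := AddSubgroup.toZModSubmodule 2 N
  have hN' : ∀ n, n ∈ N' ↔ n ∈ N := fun n => Iff.rfl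
  let ψ : B → (M →ₗ[ZMod 2] ZMod 2) := fun b => (φ.comp (D M (b : X))).toZModLinearMap 2
  have hψ : ∀ (b : B) (m : M), ψ b m = φ ((b : X) • m + m) := fun b m => rfl
  let F : B → Module.Dual (ZMod 2) (M ⧸ N') := fun b => N'.liftQ (ψ b) (by
    intro n hn
    rw [LinearMap.mem_ker, hψ]
    exact hN n ((hN' n).1 hn) b b.2)
  have hF : Function.Injective F := by
    intro b b' h
    have h1 : ∀ m : M, φ ((b : X) • m + m) = φ ((b' : X) • m + m) := by
      intro m
      have := congrArg (fun g : Module.Dual (ZMod 2) (M ⧸ N') => g (N'.mkQ m)) h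
      simpa [F, hψ] using this
    by_contra hne
    have hinv : ((b : X) * (b' : X)⁻¹) ≠ 1 := fun h2 => hne (Subtype.ext (mul_inv_eq_one.1 h2))
    obtain ⟨m, hm⟩ := hφ _ (mul_mem b.2 (inv_mem b'.2)) hinv
    apply hm
    have h3 := hmul b b.2 _ (inv_mem b'.2) m
    rw [h3, map_add, h1]
    have h4 := hmul b' b'.2 _ (inv_mem b'.2) m
    rw [mul_inv_cancel, one_smul] at h4
    rw [← map_add, ← h4]
    have h5 : m + m = 0 := by
      have h : (2 : ZMod 2) • m = m + m := two_smul _ _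
      rw [← h, show (2 : ZMod 2) = 0 by decide, zero_smul]
    rw [h5, map_zero]
  have : Finite (M ⧸ N') := Finite.of_surjective _ N'.mkQ_surjective
  have : Module.Finite (ZMod 2) (M ⧸ N') := Module.Finite.of_finite
  have : Finite (Module.Dual (ZMod 2) (M ⧸ N')) := Module.finite_of_finite (ZMod 2)
  have h1 : Nat.card B ≤ Nat.card (M ⧸ N') := by
    refine (Nat.card_le_card_of_injective F hF).trans (le_of_eq ?_)
    rw [Module.natCard_eq_pow_finrank (K := ZMod 2) (V := Module.Dual (ZMod 2) (M ⧸ N')),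
      Module.natCard_eq_pow_finrank (K := ZMod 2) (V := M ⧸ N'), Subspace.dual_finrank_eq]
  have h2 : Nat.card M = Nat.card N' * Nat.card (M ⧸ N') := Submodule.card_eq_card_quotient_mul_card N'
  have h3 : Nat.card N' = Nat.card N := rfl
  rw [h2, h3, mul_comm]
  exact Nat.mul_le_mul_left _ h1

namespace Fam

variable {A : ι → Subgroup X} {pt : ι → M}

theorem D_eq_zero (f : Fam A pt) {a : X} {m : M} : D M a m = 0 ↔ a • m = m := by
  rw [D_apply]
  refine ⟨fun h => f.eq_of_add h, fun h => by rw [h, f.two]⟩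

/-! ### Baer–Suzuki -/

theorem two_dvd [Finite M] (f : Fam A pt) (i : ι) : 2 ∣ Nat.card M := by
  have h1 : addOrderOf (pt i) = 2 := by
    apply addOrderOf_eq_prime
    · rw [two_smul]; exact f.two _
    · exact f.pt0 i
  rw [← h1]
  exact addOrderOf_dvd_natCard _

/-- a 2-subgroup fixes a nonzero vector of each nonzero invariant subspace -/
theorem exists_fix [Finite M] (f : Fam A pt) {N : Subgroup X} (h2 : IsPGroup 2 N) {W : AddSubgroup M}
    (hW : W ≠ ⊥) (hi : ∀ g ∈ N, ∀ w ∈ W, g • w ∈ W) : ∃ w ∈ W, w ≠ 0 ∧ ∀ g ∈ N, g • w = w := by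
  letI act : MulAction N W :=
    { smul := fun s n => ⟨(s : X) • (n : M), hi s s.2 n n.2⟩
      one_smul := fun n => Subtype.ext (one_smul X (n : M))
      mul_smul := fun a b n => Subtype.ext (mul_smul (a : X) (b : X) (n : M)) }
  have hdvd : 2 ∣ Nat.card W := by
    obtain ⟨w, hw0⟩ : ∃ w : W, w ≠ 0 := (AddSubgroup.ne_bot_iff_exists_ne_zero).1 hW
    have h2 : addOrderOf w = 2 := by
      apply addOrderOf_eq_prime
      · rw [two_smul]; exact Subtype.ext (f.two _)
      · exact hw0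
    rw [← h2]
    exact addOrderOf_dvd_natCard _
  have h1 : (0 : W) ∈ MulAction.fixedPoints N W := by
    intro s
    apply Subtype.ext
    change (s : X) • (0 : M) = 0
    exact smul_zero _
  obtain ⟨b, hb, hne⟩ := h2.exists_fixed_point_of_prime_dvd_card_of_fixed_point W hdvd h1
  refine ⟨b, b.2, fun h => hne (Subtype.ext h.symm), fun s hs => ?_⟩
  exact congrArg Subtype.val (hb ⟨s, hs⟩)

/-- `X` has no nontrivial normal 2-subgroup -/
theorem eq_one_of_normal [Finite M] (f : Fam A pt) (i : ι) {N : Subgroup X} (hN : N.Normal)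
    (h2 : IsPGroup 2 N) {g : X} (hg : g ∈ N) : g = 1 := by
  have hT : (⊤ : AddSubgroup M) ≠ ⊥ := by
    intro h
    have : pt i ∈ (⊤ : AddSubgroup M) := trivial
    rw [h, AddSubgroup.mem_bot] at this
    exact f.pt0 i this
  obtain ⟨w, -, hw0, hw⟩ := f.exists_fix h2 hT (fun _ _ _ _ => trivial)
  rcases f.irr (fx M N) (fun x n hn b hb => by
    have h1 := hn _ (hN.conj_mem b hb x⁻¹)
    rw [inv_inv] at h1
    have h2 : b • x • n = x • ((x⁻¹ * b * x) • n) := by
      rw [← mul_smul, ← mul_smul]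
      congr 1
      group
    rw [h2, h1]) with h | h
  · have : w ∈ fx M N := hw
    rw [h, AddSubgroup.mem_bot] at this
    exact absurd this hw0
  · apply f.faith
    intro m
    have : m ∈ fx M N := by rw [h]; trivial
    exact this g hg

theorem exists_odd [Finite X] [Finite M] (f : Fam A pt) {i : ι} {a : X} (ha : a ∈ A i) (ha1 : a ≠ 1) :
    ∃ j : ι, ∃ b ∈ A j, a * b ≠ 1 ∧ Odd (orderOf (a * b)) := by
  have hO : ¬ IsPGroup 2 (Subgroup.normalClosure {a} : Subgroup X) := fun h =>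
    ha1 (f.eq_one_of_normal i inferInstance h (Subgroup.subset_normalClosure rfl))
  obtain ⟨h, h1, hodd, hinv⟩ := Cfsg.Agent.Involutions.BaerSuzuki.exists_odd_inverted a (f.sq ha) hO
  obtain ⟨m, hm⟩ := hodd
  set k := h ^ (m + 1) with hk
  have hkk : k * k = h := by
    rw [hk, ← pow_add, show m + 1 + (m + 1) = (2 * m + 1) + 1 by ring, pow_succ, ← hm, pow_orderOf_eq_one,
      one_mul]
  have hki : a * k * a⁻¹ = k⁻¹ := by
    rw [hk, ← conj_pow, hinv, inv_pow]
  have hb : k⁻¹ * a * k = a * h := by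
    rw [← hki, ← hkk]
    group
  refine ⟨k⁻¹ • i, k⁻¹ * a * k, ?_, ?_, ?_⟩
  · have := f.eqv k⁻¹ i a ha
    rwa [inv_inv] at this
  · rw [hb, ← mul_assoc, f.sq ha, one_mul]
    exact h1
  · rw [hb, ← mul_assoc, f.sq ha, one_mul, hm]
    exact ⟨m, rfl⟩

theorem nc_of_odd {i j : ι} {g : X} (hg : g ∈ A i ⊔ A j) (h1 : g ≠ 1) (h2 : Odd (orderOf g)) : NC A i j := by
  intro h
  obtain ⟨k, hk⟩ := h ⟨g, hg⟩
  have h3 : g ^ 2 ^ k = 1 := by simpa using congrArg Subtype.val hk
  have h4 : orderOf g ∣ 2 ^ k := orderOf_dvd_of_pow_eq_one h3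
  have h5 : orderOf g = 1 := by
    have := (Nat.coprime_two_right.2 h2).pow_right k
    exact Nat.Coprime.eq_one_of_dvd this h4
  exact h1 (orderOf_eq_one_iff.1 h5)

/-- `a ∈ A i` has no fixed point in `R j` if `a b` has odd order `> 1` for some `b ∈ A j` -/
theorem inj_of_odd (f : Fam A pt) {i j : ι} {a b : X} (ha : a ∈ A i) (hb : b ∈ A j) (h1 : a * b ≠ 1)
    (h2 : Odd (orderOf (a * b))) {v : M} (hv : v ∈ cm M (A j)) (hav : a • v = v) : v = 0 := by
  have h3 : v ∈ cm M (A (a • j)) := by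
    have := f.smul_R' a hv
    rwa [hav] at this
  have h4 : a * b * a⁻¹ ∈ A (a • j) := f.eqv a j b hb
  have h5 : b * (a * b * a⁻¹) = a⁻¹ * ((a * b) * (a * b)) * a := by
    rw [f.inv ha]
    have := f.sq ha
    calc b * (a * b * a) = (a * a) * b * (a * b * a) := by rw [this, one_mul]
      _ = _ := by simp only [mul_assoc]
  have h6 : b * (a * b * a⁻¹) ≠ 1 := by
    rw [h5]
    intro h
    have h7 : (a * b) * (a * b) = 1 := by
      have : (a * b) * (a * b) = a * (a⁻¹ * ((a * b) * (a * b)) * a) * a⁻¹ := by group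
      rw [this, h]; group
    have h8 : orderOf (a * b) ∣ 2 := orderOf_dvd_of_pow_eq_one (by rw [pow_two]; exact h7)
    have h9 : orderOf (a * b) = 1 := Nat.Coprime.eq_one_of_dvd (Nat.coprime_two_right.2 h2) h8
    exact h1 (orderOf_eq_one_iff.1 h9)
  have h7 : Odd (orderOf (b * (a * b * a⁻¹))) := by
    have h8 : orderOf (b * (a * b * a⁻¹)) = orderOf ((a * b) * (a * b)) := by
      rw [h5]
      have : a⁻¹ * ((a * b) * (a * b)) * a = MulAut.conj a⁻¹ ((a * b) * (a * b)) := by simp [mul_assoc]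
      rw [this]
      exact MulEquiv.orderOf_eq (MulAut.conj a⁻¹) _
    rw [h8, ← pow_two]
    exact Odd.of_dvd_nat h2 (orderOf_pow_dvd 2)
  have h8 : NC A j (a • j) :=
    nc_of_odd (mul_mem (Subgroup.mem_sup_left hb) (Subgroup.mem_sup_right h4)) h6 h7
  have h9 : v ∈ cm M (A j) ⊓ cm M (A (a • j)) := ⟨hv, h3⟩
  rwa [f.sharp _ _ h8, AddSubgroup.mem_bot] at h9

/-- **RANK LEMMA.** -/
theorem rank [Finite X] [Finite M] (f : Fam A pt) {i : ι} {a : X} (ha : a ∈ A i) (ha1 : a ≠ 1) {r : M}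
    (hr : r ∈ cm M (A i)) : ∃ m : M, a • m + m = r := by
  obtain ⟨j, b, hb, h1, h2⟩ := f.exists_odd ha ha1
  have hle : (D M a).range ≤ cm M (A i) := by
    rintro _ ⟨m, rfl⟩
    exact mem_cm ha m
  have hcard : Nat.card (cm M (A i)) ≤ Nat.card (D M a).range := by
    rw [f.card_R i j]
    refine Nat.card_le_card_of_injective (fun v : cm M (A j) => (⟨D M a v, ⟨v, rfl⟩⟩ : (D M a).range)) ?_
    intro v w h
    have h3 : D M a (v : M) = D M a (w : M) := congrArg Subtype.val h
    have h4 : D M a ((v : M) - w) = 0 := by rw [map_sub, h3, sub_self]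
    have h5 := f.inj_of_odd ha hb h1 h2 (sub_mem v.2 w.2) (f.D_eq_zero.1 h4)
    exact Subtype.ext (sub_eq_zero.1 h5)
  have := AddSubgroup.eq_of_le_of_card_ge hle hcard
  rw [← this] at hr
  exact hr

/-- `|B| |C_M(B)| ≤ |M|` for `B ≤ A i` -/
theorem card_mul_le [Finite X] [Finite M] (f : Fam A pt) {i : ι} {B : Subgroup X} (hB : B ≤ A i) :
    Nat.card B * Nat.card (fx M B) ≤ Nat.card M := by
  letI : Module (ZMod 2) M := AddCommGroup.zmodModule (fun m => by rw [two_smul]; exact f.two m)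
  obtain ⟨φ, hφ⟩ : ∃ φ : Module.Dual (ZMod 2) M, φ (pt i) ≠ 0 := by
    by_contra h
    push Not at h
    exact f.pt0 i ((Module.forall_dual_apply_eq_zero_iff (ZMod 2) (pt i)).1 h)
  refine ThmR.card_mul_le B φ.toAddMonoidHom (fx M B) (fun b hb b' hb' m => f.mul_D (hB hb) (hB hb') m) ?_ ?_
  · intro b hb hb1
    obtain ⟨m, hm⟩ := f.rank (hB hb) hb1 (f.ptR i)
    exact ⟨m, by rw [hm]; exact hφ⟩
  · intro n hn b hb
    rw [hn b hb, f.two]
    exact map_zero _

/-- `[v, A i] = R i` for `v ∉ E i` -/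
theorem surj [Finite X] [Finite M] (f : Fam A pt) {i : ι} {v : M} (hv : v ∉ fx M (A i)) {r : M}
    (hr : r ∈ cm M (A i)) : ∃ a ∈ A i, a • v + v = r := by
  letI : Module (ZMod 2) M := AddCommGroup.zmodModule (fun m => by rw [two_smul]; exact f.two m)
  let J : AddSubgroup M :=
    { carrier := {x | ∃ a ∈ A i, a • v + v = x}
      zero_mem' := ⟨1, one_mem _, by rw [one_smul, f.two]⟩
      add_mem' := by
        rintro x y ⟨a, ha, rfl⟩ ⟨b, hb, rfl⟩
        exact ⟨a * b, mul_mem ha hb, f.mul_D ha hb v⟩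
      neg_mem' := by
        rintro x ⟨a, ha, rfl⟩
        exact ⟨a, ha, (f.neg _).symm⟩ }
  by_contra hcon
  have hrJ : r ∉ AddSubgroup.toZModSubmodule 2 J := fun h => by
    obtain ⟨a, ha, h1⟩ : r ∈ J := h
    exact hcon ⟨a, ha, h1⟩
  obtain ⟨φ, hφ, hJ⟩ := Submodule.exists_dual_map_eq_bot_of_notMem hrJ inferInstance
  have hJ' : ∀ x ∈ J, φ x = 0 := by
    intro x hx
    have : φ x ∈ (AddSubgroup.toZModSubmodule 2 J).map φ := ⟨x, hx, rfl⟩
    rwa [hJ, Submodule.mem_bot] at this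
  let N : AddSubgroup M :=
    { carrier := {n | ∀ a ∈ A i, φ (a • n + n) = 0}
      zero_mem' := fun a _ => by rw [smul_zero, add_zero, map_zero]
      add_mem' := by
        intro x y hx hy a ha
        have : a • (x + y) + (x + y) = (a • x + x) + (a • y + y) := by rw [smul_add]; abel
        rw [this, map_add, hx a ha, hy a ha, add_zero]
      neg_mem' := by
        intro x hx a ha
        rw [f.neg]
        exact hx a ha }
  have h1 : Nat.card (A i) * Nat.card N ≤ Nat.card M := by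
    refine ThmR.card_mul_le (A i) φ.toAddMonoidHom N (fun b hb b' hb' m => f.mul_D hb hb' m) ?_ ?_
    · intro b hb hb1
      obtain ⟨m, hm⟩ := f.rank hb hb1 hr
      exact ⟨m, by rw [hm]; exact hφ⟩
    · intro n hn b hb
      exact hn b hb
  have h2 : Nat.card N ≤ Nat.card (fx M (A i)) :=
    Nat.le_of_mul_le_mul_left (h1.trans (f.card i)) Nat.card_pos
  have h3 : fx M (A i) ≤ N := by
    intro n hn a ha
    rw [hn a ha, f.two, map_zero]
  have h4 := AddSubgroup.eq_of_le_of_card_ge h3 h2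
  apply hv
  rw [h4]
  exact fun a ha => hJ' _ ⟨a, ha, rfl⟩

end Fam

end Cfsg.Agent.Omega.NOThreeL.ThmR
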